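import Cfsg.Agent.Lib.Perm.Asch.Perfect

/-!
# No solvable normal subgroups modulo scalars

`NoRad X`: every solvable subgroup of `X` normalised by `X` is scalar. The property passes to normal
subgroups.
-/

set_option autoImplicit false
set_option linter.all false

namespace CfsgLib.Perm.Trans.ThreeBloom

open scoped commutatorElement Pointwise
open Cfsg.Geo CfsgLib.Perm.Asch

variable {ι : Type} [Fintype ι] [DecidableEq ι] {F : Type*} [Field F]

/-- every solvable normal subgroup is scalar -/
def NoRad (X : Subgroup (GL ι F)) : Prop :=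
  ∀ K ≤ X, NormG X K → Group.IsSolvable K → K ≤ scalars ι F

theorem normG_le_normalizer {G N : Subgroup (GL ι F)} (h : NormG G N) :
    G ≤ Subgroup.normalizer (N : Set (GL ι F)) := by
  intro g hg
  rw [Subgroup.mem_normalizer_iff]
  refine fun x => ⟨fun hx => h g hg x hx, fun hx => ?_⟩
  simpa [mul_assoc] using h g⁻¹ (G.inv_mem hg) _ hx

theorem solvable_sup {X A B : Subgroup (GL ι F)} (hA : A ≤ X) (hB : B ≤ X) (hnA : NormG X A)
    (sA : Group.IsSolvable A) (sB : Group.IsSolvable B) : Group.IsSolvable ↥(A ⊔ B) := by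
  have hle : A ⊔ B ≤ Subgroup.normalizer (A : Set (GL ι F)) :=
    (sup_le hA hB).trans (normG_le_normalizer hnA)
  haveI : (A.subgroupOf (A ⊔ B)).Normal := (Subgroup.normal_subgroupOf_iff_le_normalizer le_sup_left).2 hle
  haveI := sB
  let f : B →* ↥(A ⊔ B) ⧸ A.subgroupOf (A ⊔ B) :=
    (QuotientGroup.mk' _).comp (Subgroup.inclusion (le_sup_right : B ≤ A ⊔ B))
  have hf : Function.Surjective f := by
    intro z
    obtain ⟨g, rfl⟩ := QuotientGroup.mk'_surjective _ z
    have hg : g.1 ∈ (A : Set (GL ι F)) * (B : Set (GL ι F)) := by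
      rw [← Subgroup.coe_mul_of_right_le_normalizer_left A B ((hB.trans (normG_le_normalizer hnA)))]
      exact g.2
    obtain ⟨a, ha, b, hb, e⟩ := hg
    refine ⟨⟨b, hb⟩, ?_⟩
    show QuotientGroup.mk _ = QuotientGroup.mk g
    rw [QuotientGroup.eq, Subgroup.mem_subgroupOf]
    simp only [Subgroup.coe_mul, InvMemClass.coe_inv, Subgroup.coe_inclusion]
    have h2 : b⁻¹ * a * b ∈ A := by simpa using hnA b⁻¹ (X.inv_mem (hB hb)) a ha
    simpa [← e, mul_assoc] using h2
  haveI : Group.IsSolvable (↥(A ⊔ B) ⧸ A.subgroupOf (A ⊔ B)) := Group.isSolvable_of_surjective hf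
  haveI := sA
  exact Group.isSolvable_of_ker_le_range (Subgroup.inclusion (le_sup_left : A ≤ A ⊔ B))
    (QuotientGroup.mk' (A.subgroupOf (A ⊔ B)))
    (fun x hx => ⟨⟨x.1, (QuotientGroup.eq_one_iff x).1 hx⟩, Subtype.ext rfl⟩)

theorem NoRad.normal {X Y : Subgroup (GL ι F)} [Finite F] (hX : NoRad X) (hY : Y ≤ X) (hn : NormG X Y) :
    NoRad Y := by
  classical
  intro K hK hKn hKs
  let C : GL ι F → Subgroup (GL ι F) := fun g => K.map (MulAut.conj g).toMonoidHom
  have hC : ∀ g ∈ X, C g ≤ Y ∧ NormG Y (C g) ∧ Group.IsSolvable (C g) := by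
    intro g hg
    refine ⟨?_, ?_, ?_⟩
    · rintro _ ⟨k, hk, rfl⟩; exact hn g hg k (hK hk)
    · rintro y hy _ ⟨k, hk, rfl⟩
      have h1 : g⁻¹ * y * g ∈ Y := by simpa using hn g⁻¹ (X.inv_mem hg) y hy
      exact ⟨_, hKn _ h1 k hk, by simp [mul_assoc]⟩
    · haveI := hKs
      exact Group.isSolvable_of_surjective
        (f := ((MulAut.conj g).toMonoidHom.subgroupMap K)) (MonoidHom.subgroupMap_surjective _ _)
  -- the join of all conjugates
  have key : ∀ s : Finset (GL ι F), (∀ g ∈ s, g ∈ X) →
      (s.sup C) ≤ Y ∧ NormG Y (s.sup C) ∧ Group.IsSolvable ↥(s.sup C) := by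
    intro s
    induction s using Finset.induction_on with
    | empty =>
      intro _
      rw [Finset.sup_empty]
      refine ⟨bot_le, fun g _ x hx => ?_, inferInstance⟩
      rw [Subgroup.mem_bot] at hx; subst hx; simp
    | insert a s _ ih =>
      intro hs
      rw [Finset.sup_insert]
      obtain ⟨h1, h2, h3⟩ := ih (fun g hg => hs g (Finset.mem_insert_of_mem hg))
      obtain ⟨c1, c2, c3⟩ := hC a (hs a (Finset.mem_insert_self a s))
      refine ⟨sup_le c1 h1, fun g hg x hx => ?_, solvable_sup c1 h1 c2 c3 h3⟩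
      have hm : (C a ⊔ s.sup C).map (MulAut.conj g).toMonoidHom ≤ C a ⊔ s.sup C := by
        rw [Subgroup.map_sup]
        exact sup_le_sup (c2.map_le hg) (h2.map_le hg)
      exact hm ⟨x, hx, rfl⟩
  haveI : Fintype (GL ι F) := Fintype.ofFinite _
  let s : Finset (GL ι F) := Finset.univ.filter (· ∈ X)
  obtain ⟨h1, -, h3⟩ := key s (fun g hg => (Finset.mem_filter.1 hg).2)
  have hnorm : NormG X (s.sup C) := by
    intro g hg x hx
    have hm : (s.sup C).map (MulAut.conj g).toMonoidHom ≤ s.sup C := by
      rw [Subgroup.map_le_iff_le_comap]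
      refine Finset.sup_le fun a ha => ?_
      rw [← Subgroup.map_le_iff_le_comap]
      refine le_trans (le_of_eq ?_) (Finset.le_sup (f := C) (b := g * a)
        (Finset.mem_filter.2 ⟨Finset.mem_univ _, X.mul_mem hg (Finset.mem_filter.1 ha).2⟩))
      simp only [C, Subgroup.map_map]
      congr 1
      ext z
      simp [mul_assoc]
    exact hm ⟨x, hx, rfl⟩
  refine le_trans ?_ (hX _ (h1.trans hY) hnorm h3)
  refine le_trans (fun k hk => ?_)
    (Finset.le_sup (f := C) (b := 1) (Finset.mem_filter.2 ⟨Finset.mem_univ _, X.one_mem⟩))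
  exact ⟨k, hk, by simp⟩

theorem NoRad.not_solvable {X : Subgroup (GL ι F)} (h : NoRad X) (hs : ¬ X ≤ scalars ι F) :
    ¬ Group.IsSolvable X :=
  fun hh => hs (h X le_rfl (fun g hg x hx => X.mul_mem (X.mul_mem hg hx) (X.inv_mem hg)) hh)

/-- `X` is solvable when its derived group is scalar -/
theorem solvable_of_commutator_le {X : Subgroup (GL ι F)} (h : ⁅X, X⁆ ≤ scalars ι F) : Group.IsSolvable X := by
  have hc : Group.IsSolvable ((scalars ι F).subgroupOf X) := isSolvable_of_comm fun a b =>
    Subtype.ext (Subtype.ext (scalar_central a.2 b.1.1))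
  haveI := hc
  haveI : ((scalars ι F).subgroupOf X).Normal := scalars_normal.comap X.subtype
  haveI : Group.IsSolvable (X ⧸ (scalars ι F).subgroupOf X) := by
    refine isSolvable_of_comm fun a b => ?_
    induction a using QuotientGroup.induction_on with
    | _ x =>
      induction b using QuotientGroup.induction_on with
      | _ y =>
        rw [← QuotientGroup.mk_mul, ← QuotientGroup.mk_mul, QuotientGroup.eq, Subgroup.mem_subgroupOf]
        have := h (Subgroup.commutator_mem_commutator (X.inv_mem y.2) (X.inv_mem x.2))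
        simpa [commutatorElement_def, mul_assoc] using this
  exact Group.isSolvable_of_ker_le_range ((scalars ι F).subgroupOf X).subtype
    (QuotientGroup.mk' ((scalars ι F).subgroupOf X))
    (by rw [QuotientGroup.ker_mk', Subgroup.range_subtype])

/-- a perfect group lies in no solvable one -/
theorem eq_bot_of_perfect_solvable {G : Type*} [Group G] {X : Subgroup G} (hX : ⁅X, X⁆ = X)
    (hs : Group.IsSolvable X) : X = ⊥ := by
  by_contra hne
  haveI := hs
  haveI : Nontrivial X := (Subgroup.nontrivial_iff_ne_bot X).2 hne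
  have h1 := Group.IsSolvable.commutator_lt_top_of_nontrivial X
  refine h1.ne (Subgroup.map_injective X.subtype_injective ?_)
  rw [Subgroup.map_subtype_commutator, hX, ← MonoidHom.range_eq_map, Subgroup.range_subtype]

end CfsgLib.Perm.Trans.ThreeBloom
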