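import Mathlib

/-!
# `PGL(2)` as the special orthogonal group of degree three

The action of `GL(2)` by conjugation on the matrices of trace zero, in the basis `h, e, f`, with the form
`-2 det`: its image consists of all matrices of determinant one fixing the form, its kernel is the centre.
-/

set_option autoImplicit false
set_option linter.all false

namespace CfsgLib.Perm.Trans.ThreeBloom.AdjointTwo

open Matrix

variable {K : Type*} [Field K]

/-- the gram matrix of the form -/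
def gram : Matrix (Fin 3) (Fin 3) K := !![2, 0, 0; 0, 0, 1; 0, 1, 0]

/-- the matrix of the conjugation, times the determinant -/
def raw (A : Matrix (Fin 2) (Fin 2) K) : Matrix (Fin 3) (Fin 3) K :=
  !![A 0 0 * A 1 1 + A 0 1 * A 1 0, -(A 0 0 * A 1 0), A 0 1 * A 1 1;
    -(2 * A 0 0 * A 0 1), A 0 0 * A 0 0, -(A 0 1 * A 0 1);
    2 * A 1 0 * A 1 1, -(A 1 0 * A 1 0), A 1 1 * A 1 1]

theorem raw_mul (A B : Matrix (Fin 2) (Fin 2) K) : raw (A * B) = raw A * raw B := by
  ext i j
  fin_cases i <;> fin_cases j <;> simp [raw, Matrix.mul_apply, Fin.sum_univ_two, Fin.sum_univ_three] <;> ring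

theorem raw_one : raw (1 : Matrix (Fin 2) (Fin 2) K) = 1 := by
  ext i j
  fin_cases i <;> fin_cases j <;> simp [raw]

theorem det_raw (A : Matrix (Fin 2) (Fin 2) K) : (raw A).det = A.det ^ 3 := by
  simp [raw, Matrix.det_fin_three, Matrix.det_fin_two]
  ring

theorem raw_form (A : Matrix (Fin 2) (Fin 2) K) :
    (raw A)ᵀ * gram * raw A = A.det ^ 2 • (gram : Matrix (Fin 3) (Fin 3) K) := by
  ext i j
  fin_cases i <;> fin_cases j <;>
    simp [raw, gram, Matrix.mul_apply, Fin.sum_univ_three, Matrix.det_fin_two] <;> ring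

/-- the adjoint representation -/
noncomputable def adj : GL (Fin 2) K →* GL (Fin 3) K :=
  MonoidHom.toHomUnits
    { toFun := fun A => (A : Matrix (Fin 2) (Fin 2) K).det⁻¹ • raw (A : Matrix (Fin 2) (Fin 2) K)
      map_one' := by simp [raw_one]
      map_mul' := fun A B => by
        rw [Units.val_mul, Matrix.det_mul, raw_mul, smul_mul_smul_comm, _root_.mul_inv] }

theorem adj_coe (A : GL (Fin 2) K) : ((adj A : GL (Fin 3) K) : Matrix (Fin 3) (Fin 3) K) =
    (A : Matrix (Fin 2) (Fin 2) K).det⁻¹ • raw (A : Matrix (Fin 2) (Fin 2) K) := rfl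

theorem det_ne_zero (A : GL (Fin 2) K) : (A : Matrix (Fin 2) (Fin 2) K).det ≠ 0 :=
  ((Matrix.isUnit_iff_isUnit_det _).1 A.isUnit).ne_zero

theorem adj_det (A : GL (Fin 2) K) : ((adj A : GL (Fin 3) K) : Matrix (Fin 3) (Fin 3) K).det = 1 := by
  rw [adj_coe, Matrix.det_smul, det_raw, Fintype.card_fin, inv_pow, inv_mul_cancel₀ (pow_ne_zero _ (det_ne_zero A))]

theorem adj_form (A : GL (Fin 2) K) : ((adj A : GL (Fin 3) K) : Matrix (Fin 3) (Fin 3) K)ᵀ * gram *
    ((adj A : GL (Fin 3) K) : Matrix (Fin 3) (Fin 3) K) = gram := by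
  have h0 := det_ne_zero A
  rw [adj_coe, Matrix.transpose_smul, Matrix.smul_mul, Matrix.smul_mul, Matrix.mul_smul, smul_smul, raw_form,
    smul_smul]
  rw [show (A : Matrix (Fin 2) (Fin 2) K).det⁻¹ * (A : Matrix (Fin 2) (Fin 2) K).det⁻¹ *
    (A : Matrix (Fin 2) (Fin 2) K).det ^ 2 = 1 by field_simp, one_smul]

theorem adj_eq_one_iff (A : GL (Fin 2) K) : adj A = 1 ↔ A ∈ Subgroup.center (GL (Fin 2) K) := by
  rw [Matrix.GeneralLinearGroup.center_eq_range_scalar, MonoidHom.mem_range]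
  constructor
  · intro h
    have h0 := det_ne_zero A
    have hM : raw (A : Matrix (Fin 2) (Fin 2) K) = (A : Matrix (Fin 2) (Fin 2) K).det • (1 : Matrix (Fin 3) (Fin 3) K) := by
      have h1 := congrArg (fun U : GL (Fin 3) K => (A : Matrix (Fin 2) (Fin 2) K).det • (U : Matrix (Fin 3) (Fin 3) K)) h
      simpa [adj_coe, smul_smul, mul_inv_cancel₀ h0] using h1
    have e11 := congrFun (congrFun hM 1) 1
    have e12 := congrFun (congrFun hM 1) 2
    have e21 := congrFun (congrFun hM 2) 1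
    simp [raw, Matrix.det_fin_two] at e11 e12 e21
    have ha : A.1 0 0 ≠ 0 := fun ha => by
      refine h0 ?_
      rw [Matrix.det_fin_two, ha, e12]; ring
    have hd : A.1 0 0 = A.1 1 1 := mul_left_cancel₀ ha (by rw [e11, e12, e21]; ring)
    refine ⟨Units.mk0 _ ha, Units.ext ?_⟩
    ext i j
    fin_cases i <;> fin_cases j <;> simp [e12, e21, ← hd]
  · rintro ⟨c, rfl⟩
    refine Units.ext ?_
    rw [adj_coe]
    have hc := c.ne_zero
    ext i j
    fin_cases i <;> fin_cases j <;> simp [raw, hc] <;> field_simp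

/-- every element of determinant one fixing the form is in the image -/
theorem exists_adj (h2 : (2 : K) ≠ 0) (U : GL (Fin 3) K)
    (hU : (U : Matrix (Fin 3) (Fin 3) K)ᵀ * gram * (U : Matrix (Fin 3) (Fin 3) K) = gram)
    (hd : (U : Matrix (Fin 3) (Fin 3) K).det = 1) : ∃ A, adj A = U := by
  set u := (U : Matrix (Fin 3) (Fin 3) K) with hu
  -- the image of the first basis vector
  have hx : u 0 0 * u 0 0 + u 1 0 * u 2 0 = 1 := by
    have h := congrFun (congrFun hU 0) 0
    simp [gram, Matrix.mul_apply, Fin.sum_univ_three] at h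
    refine mul_left_cancel₀ h2 ?_
    linear_combination h
  obtain ⟨A, hA0, hA1, hA2⟩ : ∃ A : GL (Fin 2) K,
      ((adj A : GL (Fin 3) K) : Matrix (Fin 3) (Fin 3) K) 0 0 = u 0 0 ∧
      ((adj A : GL (Fin 3) K) : Matrix (Fin 3) (Fin 3) K) 1 0 = u 1 0 ∧
      ((adj A : GL (Fin 3) K) : Matrix (Fin 3) (Fin 3) K) 2 0 = u 2 0 := by
    have key : ∀ a b c d : K, ∀ h0 : a * d - b * c ≠ 0, a * d + b * c = u 0 0 * (a * d - b * c) →
        -(2 * a * b) = u 1 0 * (a * d - b * c) → 2 * c * d = u 2 0 * (a * d - b * c) →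
        ∃ A : GL (Fin 2) K,
          ((adj A : GL (Fin 3) K) : Matrix (Fin 3) (Fin 3) K) 0 0 = u 0 0 ∧
          ((adj A : GL (Fin 3) K) : Matrix (Fin 3) (Fin 3) K) 1 0 = u 1 0 ∧
          ((adj A : GL (Fin 3) K) : Matrix (Fin 3) (Fin 3) K) 2 0 = u 2 0 := by
      intro a b c d h0 e0 e1 e2
      refine ⟨Matrix.GeneralLinearGroup.mkOfDetNeZero !![a, b; c, d] (by rwa [Matrix.det_fin_two_of]), ?_, ?_, ?_⟩ <;>
        rw [adj_coe] <;> simp [raw, Matrix.det_fin_two_of]
      · linear_combination (a * d - b * c)⁻¹ * e0 + u 0 0 * mul_inv_cancel₀ h0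
      · linear_combination (a * d - b * c)⁻¹ * e1 + u 1 0 * mul_inv_cancel₀ h0
      · linear_combination (a * d - b * c)⁻¹ * e2 + u 2 0 * mul_inv_cancel₀ h0
    by_cases hx1 : u 0 0 + 1 = 0
    · have hx0 : u 0 0 = -1 := by linear_combination hx1
      have hyz : u 1 0 * u 2 0 = 0 := by linear_combination hx - (u 0 0 - 1) * hx0
      rcases mul_eq_zero.1 hyz with hy | hz
      · exact key 0 (-2) 1 (u 2 0) (by ring_nf; exact h2) (by rw [hx0]; ring) (by rw [hy]; ring) (by ring)
      · exact key (u 1 0) 1 2 0 (by ring_nf; exact neg_ne_zero.2 h2) (by rw [hx0]; ring) (by ring) (by rw [hz]; ring)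
    · refine key (u 0 0 + 1) (-u 1 0) (u 2 0) (u 0 0 + 1) ?_ ?_ ?_ ?_
      · rw [show (u 0 0 + 1) * (u 0 0 + 1) - -u 1 0 * u 2 0 = 2 * (u 0 0 + 1) by linear_combination hx]
        exact mul_ne_zero h2 hx1
      · linear_combination (-u 0 0 - 1) * hx
      · linear_combination (-u 1 0) * hx
      · linear_combination (-u 2 0) * hx
  -- reduce to the first vector fixed
  set V : GL (Fin 3) K := (adj A)⁻¹ * U with hV
  set v := (V : Matrix (Fin 3) (Fin 3) K) with hv
  have hVd : v.det = 1 := by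
    rw [hv, hV, Units.val_mul, Matrix.det_mul, Matrix.coe_units_inv, Matrix.det_nonsing_inv, adj_det, ← hu, hd]
    simp
  have hAV : ((adj A : GL (Fin 3) K) : Matrix (Fin 3) (Fin 3) K) * v = u := by
    rw [hv, ← Units.val_mul, hV, mul_inv_cancel_left]
  have hVf : vᵀ * gram * v = gram := by
    have h1 := hU
    rw [← hAV, Matrix.transpose_mul] at h1
    calc vᵀ * gram * v = vᵀ * (((adj A : GL (Fin 3) K) : Matrix (Fin 3) (Fin 3) K)ᵀ * gram *
          ((adj A : GL (Fin 3) K) : Matrix (Fin 3) (Fin 3) K)) * v := by rw [adj_form]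
      _ = vᵀ * ((adj A : GL (Fin 3) K) : Matrix (Fin 3) (Fin 3) K)ᵀ * gram *
          (((adj A : GL (Fin 3) K) : Matrix (Fin 3) (Fin 3) K) * v) := by simp only [Matrix.mul_assoc]
      _ = gram := h1
  have hcol : ∀ i, v i 0 = if i = 0 then 1 else 0 := by
    intro i
    have hAi : ∀ j, ((((adj A)⁻¹ : GL (Fin 3) K) : Matrix (Fin 3) (Fin 3) K) * (adj A : GL (Fin 3) K)) i j =
        if i = j then 1 else 0 := fun j => by rw [Units.inv_mul, Matrix.one_apply]
    rw [← hAi 0, hv, hV, Units.val_mul, ← hu, Matrix.mul_apply, Matrix.mul_apply, Fin.sum_univ_three,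
      Fin.sum_univ_three, hA0, hA1, hA2]
  have h00 : v 0 0 = 1 := by simpa using hcol 0
  have h10 : v 1 0 = 0 := by simpa using hcol 1
  have h20 : v 2 0 = 0 := by simpa using hcol 2
  have f01 := congrFun (congrFun hVf 0) 1
  have f02 := congrFun (congrFun hVf 0) 2
  simp [gram, Matrix.mul_apply, Fin.sum_univ_three, h00, h10, h20, h2] at f01 f02
  have f11 := congrFun (congrFun hVf 1) 1
  have f22 := congrFun (congrFun hVf 2) 2
  have f12 := congrFun (congrFun hVf 1) 2
  simp [gram, Matrix.mul_apply, Fin.sum_univ_three, h00, h10, h20, f01, f02] at f11 f22 f12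
  rw [Matrix.det_fin_three] at hVd
  simp [h00, h10, h20, f01, f02] at hVd
  have hps : v 1 1 * v 2 2 = 1 := mul_left_cancel₀ h2 (by linear_combination f12 + hVd)
  have hp0 : v 1 1 ≠ 0 := fun h => one_ne_zero (by rw [← hps, h, zero_mul])
  have hs0 : v 2 2 ≠ 0 := fun h => one_ne_zero (by rw [← hps, h, mul_zero])
  have h21 : v 2 1 = 0 :=
    (mul_eq_zero.1 (show 2 * v 1 1 * v 2 1 = 0 by linear_combination f11)).resolve_left (mul_ne_zero h2 hp0)
  have h12 : v 1 2 = 0 :=
    (mul_eq_zero.1 (show 2 * v 2 2 * v 1 2 = 0 by linear_combination f22)).resolve_left (mul_ne_zero h2 hs0)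
  have hs : v 2 2 = (v 1 1)⁻¹ := eq_inv_of_mul_eq_one_right hps
  refine ⟨A * Matrix.GeneralLinearGroup.mkOfDetNeZero !![v 1 1, 0; 0, 1] (by simp [Matrix.det_fin_two_of, hp0]), ?_⟩
  rw [map_mul]
  suffices h : adj (Matrix.GeneralLinearGroup.mkOfDetNeZero !![v 1 1, 0; 0, 1]
      (by simp [Matrix.det_fin_two_of, hp0])) = V by
    rw [h, hV, mul_inv_cancel_left]
  refine Units.ext ?_
  rw [adj_coe, ← hv]
  ext i j
  fin_cases i <;> fin_cases j <;> simp [raw, Matrix.det_fin_two_of, h00, h10, h20, f01, f02, h21, h12, hs, hp0]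

end CfsgLib.Perm.Trans.ThreeBloom.AdjointTwo
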