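import Cfsg.Agent.Lib.Perm.Trans.ThreeBloom.Socle
import Cfsg.Agent.Lib.Perm.Trans.ThreeRes.Traces

/-!
# Descent to the field of the traces

A subgroup of `PSL(3)` without normal elementary abelian subgroups is, modulo scalars, a group over
the field of traces of its socle, containing the socle with scalar centralizer; its determinants are
cubes in the large field.
-/

set_option autoImplicit false
set_option linter.all false

namespace CfsgLib.Perm.Trans.ThreeBloom

open scoped Matrix commutatorElement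
open Matrix Cfsg.Geo CfsgLib.Perm.Asch

/-- the subgroup, seen over the field of traces -/
structure Model {F : Type*} [Field F] (H : Subgroup (Matrix.ProjectiveSpecialLinearGroup (Fin 3) F))
    (p α : ℕ) (K : Type) [Field K] [Fintype K] (β : ℕ) (ι : K →+* F)
    (N P : Subgroup (GL (Fin 3) K)) : Prop where
  card : Fintype.card K = p ^ β
  dvd : β ∣ α
  pos : 1 ≤ β
  charP : CharP K p
  quasi : ThreeRes.Quasi P
  noSub : ThreeRes.NoSubfield P
  le : P ≤ N
  norm : NormG N P
  scal : scalars (Fin 3) K ≤ N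
  cent : ∀ h ∈ N, (∀ v ∈ P, h * v * h⁻¹ * v⁻¹ ∈ scalars (Fin 3) K) → h ∈ scalars (Fin 3) K
  det : ∀ U ∈ N, ∃ c : F, ι (U : Matrix (Fin 3) (Fin 3) K).det * c ^ 3 = 1
  iso : Nonempty (↥H ≃* ↥N ⧸ (scalars (Fin 3) K).subgroupOf N)

section transfer

variable {F : Type*} [Field F] [Fintype F]

/-- a perfect group simple modulo scalars has no solvable normal subgroups -/
theorem noRad_of_simple {P : Subgroup (GL (Fin 3) F)} (hperf : ⁅P, P⁆ = P) (hs : ¬ P ≤ scalars (Fin 3) F)
    (hsimple : IsSimpleGroup (P ⧸ (scalars (Fin 3) F).subgroupOf P)) : NoRad P := by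
  intro K hK hKn hKs
  set Z := scalars (Fin 3) F
  haveI : (Z.subgroupOf P).Normal := scalars_normal.comap P.subtype
  haveI : (K.subgroupOf P).Normal :=
    (Subgroup.normal_subgroupOf_iff_le_normalizer hK).2 (normG_le_normalizer hKn)
  haveI : ((K.subgroupOf P).map (QuotientGroup.mk' (Z.subgroupOf P))).Normal :=
    Subgroup.Normal.map inferInstance _ (QuotientGroup.mk'_surjective _)
  rcases hsimple.eq_bot_or_eq_top_of_normal _ (inferInstance :
    ((K.subgroupOf P).map (QuotientGroup.mk' (Z.subgroupOf P))).Normal) with h | h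
  · intro k hk
    have h1 : QuotientGroup.mk' (Z.subgroupOf P) ⟨k, hK hk⟩ ∈ (K.subgroupOf P).map (QuotientGroup.mk' (Z.subgroupOf P)) :=
      ⟨⟨k, hK hk⟩, hk, rfl⟩
    rw [h, Subgroup.mem_bot] at h1
    exact Subgroup.mem_subgroupOf.1 ((QuotientGroup.eq_one_iff _).1 h1)
  · exfalso
    haveI := hKs
    haveI : Group.IsSolvable (K.subgroupOf P) :=
      Group.isSolvable_of_isSolvable_injective (f := (Subgroup.subgroupOfEquivOfLe hK).toMonoidHom)
        (MulEquiv.injective _)
    haveI : Group.IsSolvable ((K.subgroupOf P).map (QuotientGroup.mk' (Z.subgroupOf P))) :=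
      Group.isSolvable_of_surjective (MonoidHom.subgroupMap_surjective _ _)
    rw [h] at this
    haveI := this
    haveI : Group.IsSolvable (P ⧸ Z.subgroupOf P) :=
      Group.isSolvable_of_surjective (f := Subgroup.topEquiv.toMonoidHom) (MulEquiv.surjective _)
    haveI : Group.IsSolvable (Z.subgroupOf P) := isSolvable_of_comm fun a b =>
      Subtype.ext (Subtype.ext (scalar_central a.2 b.1.1))
    have hP : Group.IsSolvable P := Group.isSolvable_of_ker_le_range (Z.subgroupOf P).subtype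
      (QuotientGroup.mk' (Z.subgroupOf P)) (by rw [QuotientGroup.ker_mk', Subgroup.range_subtype])
    exact hs ((eq_bot_of_perfect_solvable hperf hP).le.trans bot_le)

end transfer

universe u

variable {F : Type u} [Field F] [Fintype F]

/-- `H` inside `GL(3)` modulo scalars -/
noncomputable def toPGL (H : Subgroup (Matrix.ProjectiveSpecialLinearGroup (Fin 3) F)) :
    ↥H →* GL (Fin 3) F ⧸ scalars (Fin 3) F :=
  (QuotientGroup.map (Subgroup.center (Matrix.SpecialLinearGroup (Fin 3) F)) (scalars (Fin 3) F)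
    Matrix.SpecialLinearGroup.toGL (fun _ hA => toGL_mem_scalars.2 hA)).comp H.subtype

theorem toPGL_injective (H : Subgroup (Matrix.ProjectiveSpecialLinearGroup (Fin 3) F)) :
    Function.Injective (toPGL H) := by
  rw [injective_iff_map_eq_one]
  rintro ⟨x, hx⟩ h
  obtain ⟨A, rfl⟩ := QuotientGroup.mk'_surjective _ x
  exact Subtype.ext ((QuotientGroup.eq_one_iff A).2 (toGL_mem_scalars.1 ((QuotientGroup.eq_one_iff _).1 h)))

theorem mem_toPGL_range {H : Subgroup (Matrix.ProjectiveSpecialLinearGroup (Fin 3) F)} {g : GL (Fin 3) F} :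
    (g : GL (Fin 3) F ⧸ scalars (Fin 3) F) ∈ (toPGL H).range ↔
      ∃ x ∈ lift H, x⁻¹ * g ∈ scalars (Fin 3) F := by
  constructor
  · rintro ⟨⟨x, hx⟩, h⟩
    obtain ⟨A, rfl⟩ := QuotientGroup.mk'_surjective _ x
    exact ⟨_, ⟨A, hx, rfl⟩, QuotientGroup.eq.1 h⟩
  · rintro ⟨_, ⟨A, hA, rfl⟩, h⟩
    exact ⟨⟨_, hA⟩, QuotientGroup.eq.2 h⟩

theorem exists_model (p α : ℕ) [Fact p.Prime] (hp : p ≠ 2) (hα : 1 ≤ α) (hF : Fintype.card F = p ^ α)
    (H : Subgroup (Matrix.ProjectiveSpecialLinearGroup (Fin 3) F)) (hH : H ≠ ⊥)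
    (hN : ∀ N : Subgroup ↥H, N.Normal → IsMulCommutative ↥N → (∃ r : ℕ, r.Prime ∧ ∀ x ∈ N, x ^ r = 1) → N = ⊥) :
    ∃ (K : Type) (_ : Field K) (_ : Fintype K) (β : ℕ) (ι : K →+* F) (N P : Subgroup (GL (Fin 3) K)),
      Model H p α K β ι N P := by
  classical
  have hp' : p.Prime := Fact.out
  haveI hchar : CharP F p := by
    obtain ⟨n, hq, hn⟩ := FiniteField.card F (ringChar F)
    have hd : ringChar F ∣ p ^ α := by rw [← hF, hn]; exact dvd_pow_self _ n.ne_zero
    have : ringChar F = p := (Nat.prime_dvd_prime_iff_eq hq hp').1 (hq.dvd_of_dvd_pow hd)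
    rw [← this]; exact ringChar.charP F
  have h2 : (2 : F) ≠ 0 := Ring.two_ne_zero (by rw [ringChar.eq F p]; exact hp)
  obtain ⟨P, hPX, hPn, hPq, hPs, hPc⟩ :=
    exists_socle h2 (noRad_lift hN) (lift_not_scalar hH) (lift_le_sl H)
  -- the field of traces
  set T : Set F := (fun g : GL (Fin 3) F => (g : Matrix (Fin 3) (Fin 3) F).trace) '' (P : Set (GL (Fin 3) F))
  set F₀ : Subfield F := Subfield.closure T
  haveI : Fintype F₀ := Fintype.ofFinite _
  haveI : CharP F₀ p := (F₀.subtype.charP_iff F₀.subtype.injective p).2 hchar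
  obtain ⟨β, -, hβ⟩ := FiniteField.card F₀ p
  let K := GaloisField p (β : ℕ)
  haveI : Fintype K := Fintype.ofFinite K
  have hK : Fintype.card K = p ^ (β : ℕ) := by
    rw [← Nat.card_eq_fintype_card]; exact GaloisField.card p β β.ne_zero
  let e : K ≃+* F₀ := FiniteField.ringEquivOfCardEq (hK.trans hβ.symm)
  let ι : K →+* F := F₀.subtype.comp e.toRingHom
  have hιi : Function.Injective ι := F₀.subtype.injective.comp e.injective
  have hιmem : ∀ x, x ∈ F₀ ↔ ∃ k, ι k = x := by
    intro x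
    exact ⟨fun hx => ⟨e.symm ⟨x, hx⟩, by simp [ι]⟩, fun ⟨k, hk⟩ => hk ▸ (e k).2⟩
  have hdvd : (β : ℕ) ∣ α := by
    have h := Module.natCard_eq_pow_finrank (K := F₀) (V := F)
    rw [Nat.card_eq_fintype_card, Nat.card_eq_fintype_card, hF, hβ, ← pow_mul] at h
    exact ⟨_, Nat.pow_right_injective hp'.two_le h⟩
  obtain ⟨B, hB⟩ := ThreeRes.realisable_of_traces hPq.absIrred F₀
    (fun g hg => Subfield.subset_closure ⟨g, hg, rfl⟩)
  let φ : GL (Fin 3) K →* GL (Fin 3) F :=
    (MulAut.conj B⁻¹).toMonoidHom.comp (Matrix.GeneralLinearGroup.map ι)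
  have hφc : ∀ U, ((φ U : GL (Fin 3) F) : Matrix (Fin 3) (Fin 3) F) =
      ((B⁻¹ : GL (Fin 3) F) : Matrix (Fin 3) (Fin 3) F) * (U : Matrix (Fin 3) (Fin 3) K).map ι *
        (B : Matrix (Fin 3) (Fin 3) F) := fun U => by
    show (((B⁻¹ * Matrix.GeneralLinearGroup.map ι U * B⁻¹⁻¹ : GL (Fin 3) F)) : Matrix (Fin 3) (Fin 3) F) = _
    rw [inv_inv]; rfl
  have hmapi : Function.Injective (Matrix.GeneralLinearGroup.map (n := Fin 3) ι) := fun a b h =>
    Units.ext (Matrix.map_injective hιi (congrArg Units.val h))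
  have hφi : Function.Injective φ := fun a b h => hmapi ((MulAut.conj B⁻¹).injective h)
  have hφsc : ∀ U, φ U ∈ scalars (Fin 3) F ↔ U ∈ scalars (Fin 3) K := by
    intro U
    constructor
    · intro h
      have h1 := scalars_normal.conj_mem _ h B
      simp only [φ, MonoidHom.coe_comp, Function.comp_apply, MulEquiv.coe_toMonoidHom, MulAut.conj_apply,
        inv_inv, mul_assoc, mul_inv_cancel_left, mul_inv_cancel, mul_one] at h1
      obtain ⟨c, hc⟩ := mem_scalars.1 h1
      have hd : ∀ i j, ι ((U : Matrix (Fin 3) (Fin 3) K) i j) = if i = j then (c : F) else 0 := fun i j => by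
        have := congrFun (congrFun hc i) j
        simpa [Matrix.one_apply] using this
      refine mem_scalars_of_eq (c := (U : Matrix (Fin 3) (Fin 3) K) 0 0) (Matrix.ext fun i j => hιi ?_)
      rw [hd]
      by_cases hij : i = j
      · simp [hij, hd]
      · simp [hij]
    · intro h
      obtain ⟨c, hc⟩ := mem_scalars.1 h
      refine mem_scalars_of_eq (c := ι c) ?_
      rw [hφc, hc, Matrix.map_smul' _ _ _ (map_mul ι), Matrix.map_one _ (map_zero ι) (map_one ι),
        mul_smul_comm, smul_mul_assoc, mul_one, gl_inv_mul]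
  have hφtr : ∀ U, ((φ U : GL (Fin 3) F) : Matrix (Fin 3) (Fin 3) F).trace =
      ι (U : Matrix (Fin 3) (Fin 3) K).trace := fun U => by
    rw [hφc, Matrix.trace_mul_cycle, gl_mul_inv, one_mul]
    exact (AddMonoidHom.map_trace ι.toAddMonoidHom _).symm
  have hφdet : ∀ U, ((φ U : GL (Fin 3) F) : Matrix (Fin 3) (Fin 3) F).det =
      ι (U : Matrix (Fin 3) (Fin 3) K).det := fun U => by
    rw [hφc, Matrix.det_mul, Matrix.det_mul, mul_comm, ← mul_assoc, ← Matrix.det_mul, gl_mul_inv, Matrix.det_one,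
      one_mul, ← RingHom.mapMatrix_apply, ← RingHom.map_det]
  -- elements of the normaliser are in the image
  have hrange : F₀.subtype.fieldRange = F₀ := Subfield.ext fun x => ⟨fun ⟨y, hy⟩ => hy ▸ y.2, fun hx => ⟨⟨x, hx⟩, rfl⟩⟩
  have himg : ∀ x ∈ lift H, ∃ U, ∃ z ∈ scalars (Fin 3) F, x = φ U * z := by
    intro x hx
    obtain ⟨y, hy, rfl⟩ := le_subfield_of_realised hPn hPq.absIrred (F₁ := F₀) (B := B) hB hx
    obtain ⟨_, ⟨V, rfl⟩, z, hz, rfl⟩ := Subgroup.mem_sup_of_normal_right.1 hy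
    refine ⟨Matrix.GeneralLinearGroup.map e.symm.toRingHom V, z, hz, ?_⟩
    have hV : Matrix.GeneralLinearGroup.map ι (Matrix.GeneralLinearGroup.map e.symm.toRingHom V) =
        Matrix.GeneralLinearGroup.map F₀.subtype V := by
      refine Units.ext (Matrix.ext fun i j => ?_)
      show ι (e.symm ((V : Matrix (Fin 3) (Fin 3) F₀) i j)) = _
      simp [ι]
    simp only [φ, MonoidHom.coe_comp, Function.comp_apply, MulEquiv.coe_toMonoidHom, hV, MulAut.conj_apply, inv_inv]
    simp only [mul_assoc, scalar_central hz B]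
  have hPimg : ∀ g ∈ P, ∃ U, φ U = g := by
    intro g hg
    have hM : ∀ i j, ∃ k, ι k = cj B (g : Matrix (Fin 3) (Fin 3) F) i j := fun i j =>
      (hιmem _).1 (hB _ (mem_matrixSet hg) i j)
    choose M hM using hM
    have hMm : (Matrix.of M).map ι = cj B (g : Matrix (Fin 3) (Fin 3) F) := Matrix.ext hM
    have hdet : (Matrix.of M).det ≠ 0 := by
      intro h0
      have := congrArg ι h0
      rw [RingHom.map_det, RingHom.mapMatrix_apply, hMm, map_zero, cj_coe] at this
      exact ((Matrix.isUnit_iff_isUnit_det _).1 (Units.isUnit _)).ne_zero this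
    refine ⟨Matrix.GeneralLinearGroup.mkOfDetNeZero _ hdet, Units.ext ?_⟩
    rw [hφc]
    show _ * (Matrix.of M).map ι * _ = _
    rw [hMm, ← cj_inv_cj B (g : Matrix (Fin 3) (Fin 3) F), cj_cj_inv]
    simp [cj]
  set P₀ : Subgroup (GL (Fin 3) K) := P.comap φ with hP₀
  set N : Subgroup (GL (Fin 3) K) :=
    (toPGL H).range.comap ((QuotientGroup.mk' (scalars (Fin 3) F)).comp φ) with hNdef
  have hP₀map : P₀.map φ = P := Subgroup.map_comap_eq_self fun g hg => by
    obtain ⟨U, rfl⟩ := hPimg g hg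
    exact ⟨U, rfl⟩
  have hmemN : ∀ U, U ∈ N ↔ ∃ x ∈ lift H, x⁻¹ * φ U ∈ scalars (Fin 3) F := fun U => by
    rw [hNdef, Subgroup.mem_comap]; exact mem_toPGL_range
  have hperf₀ : ⁅P₀, P₀⁆ = P₀ := by
    apply Subgroup.map_injective hφi
    rw [Subgroup.map_commutator, hP₀map, hPq.perfect]
  have hsl₀ : P₀ ≤ specialLinear (Fin 3) K := by
    intro U hU
    refine Units.ext ?_
    rw [Matrix.GeneralLinearGroup.val_det_apply]
    apply hιi
    have h1 := congrArg Units.val (show Matrix.GeneralLinearGroup.det (φ U) = 1 from hPq.le_sl hU)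
    rw [Matrix.GeneralLinearGroup.val_det_apply, hφdet] at h1
    rw [h1, Units.val_one, Units.val_one, map_one]
  have hs₀ : ¬ P₀ ≤ scalars (Fin 3) K := fun h => hPs fun g hg => by
    obtain ⟨U, rfl⟩ := hPimg g hg
    exact (hφsc U).2 (h hg)
  haveI : ((scalars (Fin 3) F).subgroupOf P).Normal := scalars_normal.comap P.subtype
  haveI : ((scalars (Fin 3) K).subgroupOf P₀).Normal := scalars_normal.comap P₀.subtype
  let f : ↥P₀ →* ↥P ⧸ (scalars (Fin 3) F).subgroupOf P :=
    (QuotientGroup.mk' _).comp ((φ.comp P₀.subtype).codRestrict P fun U => U.2)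
  have hfker : f.ker = (scalars (Fin 3) K).subgroupOf P₀ := by
    ext U
    rw [MonoidHom.mem_ker, Subgroup.mem_subgroupOf, ← hφsc]
    exact QuotientGroup.eq_one_iff _
  have hfsurj : Function.Surjective f := by
    intro q
    obtain ⟨⟨g, hg⟩, rfl⟩ := QuotientGroup.mk'_surjective _ q
    obtain ⟨U, rfl⟩ := hPimg g hg
    exact ⟨⟨U, hg⟩, rfl⟩
  let eq₀ := (QuotientGroup.quotientMulEquivOfEq hfker.symm).trans
    (QuotientGroup.quotientKerEquivOfSurjective f hfsurj)
  haveI := hPq.simple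
  have hsimp₀ : IsSimpleGroup (↥P₀ ⧸ (scalars (Fin 3) K).subgroupOf P₀) := by
    haveI : Nontrivial (↥P₀ ⧸ (scalars (Fin 3) K).subgroupOf P₀) := eq₀.toEquiv.nontrivial
    exact eq₀.isSimpleGroup
  have hq₀ : ThreeRes.Quasi P₀ :=
    ⟨hsl₀, hperf₀, hsimp₀, fun hc => hPq.nonabelian ⟨⟨fun a b => by
        apply eq₀.symm.injective
        rw [map_mul, map_mul]
        exact hc.is_comm.comm _ _⟩⟩,
      absIrr_of_noRad (fun h => h2 (by simpa [map_ofNat] using congrArg ι h))
        (noRad_of_simple hperf₀ hs₀ hsimp₀) hperf₀ hs₀ hsl₀⟩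
  have hle : P₀ ≤ N := fun U hU => (hmemN U).2 ⟨φ U, hPX hU, by simp⟩
  have hnorm : NormG N P₀ := by
    intro h hh U hU
    obtain ⟨x, hx, hxh⟩ := (hmemN h).1 hh
    rw [hP₀, Subgroup.mem_comap, map_mul, map_mul, map_inv]
    have e1 : φ h = x * (x⁻¹ * φ h) := by rw [mul_inv_cancel_left]
    rw [e1, _root_.mul_inv_rev, mul_assoc x, scalar_central hxh (φ U)]
    simpa [mul_assoc] using hPn x hx _ hU
  refine ⟨K, inferInstance, inferInstance, β, ι, N, P₀, hK, hdvd, β.pos, inferInstance, hq₀, ?_, hle, hnorm,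
    ?_, ?_, ?_, ?_⟩
  · -- no subfield
    intro K₁ hK₁ hreal
    obtain ⟨C, hC⟩ := hreal
    apply hK₁
    rw [eq_top_iff]
    intro k _
    have hsub : F₀ ≤ K₁.map ι := by
      rw [Subfield.closure_le]
      rintro _ ⟨g, hg, rfl⟩
      obtain ⟨U, rfl⟩ := hPimg g hg
      refine ⟨(U : Matrix (Fin 3) (Fin 3) K).trace, ?_, (hφtr U).symm⟩
      have h1 : (U : Matrix (Fin 3) (Fin 3) K).trace = (cj C (U : Matrix (Fin 3) (Fin 3) K)).trace := by
        simp only [cj]
        rw [Matrix.trace_mul_cycle, gl_inv_mul, one_mul]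
      rw [h1]
      exact Subfield.sum_mem _ fun i _ => hC _ (mem_matrixSet hg) i i
    obtain ⟨k', hk', he⟩ := hsub ((hιmem _).2 ⟨k, rfl⟩)
    exact hιi he ▸ hk'
  · intro U hU
    exact (hmemN U).2 ⟨1, one_mem _, by simpa using (hφsc U).2 hU⟩
  · intro h hh hc
    obtain ⟨x, hx, hxh⟩ := (hmemN h).1 hh
    rw [← hφsc]
    have hxs : x ∈ scalars (Fin 3) F := hPc x hx fun g hg => by
      obtain ⟨U, rfl⟩ := hPimg g hg
      have h1 := (hφsc _).2 (hc U hg)
      rw [map_mul, map_mul, map_mul, map_inv, map_inv] at h1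
      have e1 : φ h = x * (x⁻¹ * φ h) := by rw [mul_inv_cancel_left]
      rw [e1, _root_.mul_inv_rev, mul_assoc x, scalar_central hxh (φ U)] at h1
      simpa [mul_assoc] using h1
    simpa using (scalars (Fin 3) F).mul_mem hxs hxh
  · intro U hU
    obtain ⟨x, hx, hxU⟩ := (hmemN U).1 hU
    obtain ⟨c, hc⟩ := mem_scalars.1 (inv_mem hxU)
    refine ⟨c, ?_⟩
    rw [_root_.mul_inv_rev, inv_inv] at hc
    have h1 : (x : Matrix (Fin 3) (Fin 3) F) = (c : F) • (φ U : Matrix (Fin 3) (Fin 3) F) := by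
      calc (x : Matrix (Fin 3) (Fin 3) F)
          = ((φ U : GL (Fin 3) F) : Matrix (Fin 3) (Fin 3) F) * (((φ U)⁻¹ * x : GL (Fin 3) F) : Matrix (Fin 3) (Fin 3) F) := by
            rw [← Units.val_mul, mul_inv_cancel_left]
        _ = _ := by rw [hc, mul_smul_comm, mul_one]
    have h2 := congrArg Units.val (show Matrix.GeneralLinearGroup.det x = 1 from lift_le_sl H hx)
    rw [Matrix.GeneralLinearGroup.val_det_apply, Units.val_one, h1, Matrix.det_smul, Fintype.card_fin, hφdet] at h2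
    rw [mul_comm]; exact h2
  · haveI : ((scalars (Fin 3) K).subgroupOf N).Normal := scalars_normal.comap N.subtype
    let g : ↥N →* (toPGL H).range :=
      (((QuotientGroup.mk' (scalars (Fin 3) F)).comp φ).comp N.subtype).codRestrict _ fun U => U.2
    have hgker : g.ker = (scalars (Fin 3) K).subgroupOf N := by
      ext U
      rw [MonoidHom.mem_ker, Subgroup.mem_subgroupOf, ← hφsc, Subtype.ext_iff]
      exact QuotientGroup.eq_one_iff _
    have hgsurj : Function.Surjective g := by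
      rintro ⟨y, hy⟩
      obtain ⟨h, hh⟩ := hy
      obtain ⟨x, rfl⟩ := QuotientGroup.mk'_surjective _ y
      obtain ⟨x', hx', hz'⟩ := mem_toPGL_range.1 ⟨h, hh⟩
      obtain ⟨U, z, hz, rfl⟩ := himg x' hx'
      have hmem : U ∈ N := (hmemN U).2 ⟨_, hx', by
        rw [_root_.mul_inv_rev, mul_assoc, inv_mul_cancel, mul_one]; exact inv_mem hz⟩
      refine ⟨⟨U, hmem⟩, Subtype.ext ?_⟩
      show QuotientGroup.mk (φ U) = QuotientGroup.mk x
      rw [QuotientGroup.eq]
      have := (scalars (Fin 3) F).mul_mem hz hz'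
      simpa [mul_assoc] using this
    exact ⟨(MonoidHom.ofInjective (toPGL_injective H)).trans
      (((QuotientGroup.quotientMulEquivOfEq hgker.symm).trans
        (QuotientGroup.quotientKerEquivOfSurjective g hgsurj)).symm)⟩

end CfsgLib.Perm.Trans.ThreeBloom
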