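import Cfsg.Agent.Lib.Perm.Trans.ThreeBloom.Descent

/-!
# The determinant index

When the elements of the normaliser with a cube determinant lie in the socle times the scalars, the
socle has index one or three; in the latter case the big field has degree divisible by three.
-/

set_option autoImplicit false
set_option linter.all false

namespace CfsgLib.Perm.Trans.ThreeBloom

open scoped Matrix commutatorElement
open Matrix Cfsg.Geo CfsgLib.Perm.Asch

variable {K : Type} [Field K] [Fintype K]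

/-- the socle is everything or has index three -/
theorem det_index {H : Type*} [Group H] {N P : Subgroup (GL (Fin 3) K)} (hle : P ≤ N) (hsc : scalars (Fin 3) K ≤ N)
    (hsl : P ≤ specialLinear (Fin 3) K)
    (hcube : ∀ U ∈ N, (∃ c : K, (U : Matrix (Fin 3) (Fin 3) K).det = c ^ 3) → U ∈ P ⊔ scalars (Fin 3) K)
    (e : H ≃* ↥N ⧸ (scalars (Fin 3) K).subgroupOf N) :
    Nonempty (H ≃* ↥P ⧸ (scalars (Fin 3) K).subgroupOf P) ∨
      ∃ U ∈ N, (¬ ∃ c : K, (U : Matrix (Fin 3) (Fin 3) K).det = c ^ 3) ∧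
        ∃ L : Subgroup H, L.index = 3 ∧ Nonempty (↥L ≃* ↥P ⧸ (scalars (Fin 3) K).subgroupOf P) := by
  classical
  set Z := scalars (Fin 3) K
  haveI : (Z.subgroupOf N).Normal := scalars_normal.comap N.subtype
  haveI : (Z.subgroupOf P).Normal := scalars_normal.comap P.subtype
  let g : ↥P →* H := (e.symm.toMonoidHom.comp (QuotientGroup.mk' _)).comp (Subgroup.inclusion hle)
  have hgker : g.ker = Z.subgroupOf P := by
    ext x
    rw [MonoidHom.mem_ker, Subgroup.mem_subgroupOf]
    simp only [g, MonoidHom.coe_comp, Function.comp_apply, MulEquiv.coe_toMonoidHom,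
      EmbeddingLike.map_eq_one_iff]
    exact QuotientGroup.eq_one_iff _
  let eq₁ := (QuotientGroup.quotientMulEquivOfEq hgker.symm).trans (QuotientGroup.quotientKerEquivRange g)
  -- the image of the socle, seen in `N`
  have hmem : ∀ (U : GL (Fin 3) K) (hU : U ∈ N), e.symm (QuotientGroup.mk ⟨U, hU⟩) ∈ g.range ↔ U ∈ P ⊔ Z := by
    intro U hU
    rw [Subgroup.mem_sup_of_normal_right]
    constructor
    · rintro ⟨x, hx⟩
      have h1 := e.symm.injective hx
      replace h1 := QuotientGroup.eq.1 h1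
      rw [Subgroup.mem_subgroupOf] at h1
      exact ⟨x.1, x.2, _, h1, mul_inv_cancel_left _ _⟩
    · rintro ⟨x, hx, z, hz, rfl⟩
      refine ⟨⟨x, hx⟩, congrArg e.symm (QuotientGroup.eq.2 ?_)⟩
      rw [Subgroup.mem_subgroupOf]
      simpa [Subgroup.coe_inclusion] using hz
  by_cases hall : ∀ U ∈ N, ∃ c : K, (U : Matrix (Fin 3) (Fin 3) K).det = c ^ 3
  · left
    have htop : g.range = ⊤ := by
      rw [Subgroup.eq_top_iff']
      intro h
      obtain ⟨⟨U, hU⟩, hUh⟩ := QuotientGroup.mk'_surjective _ (e h)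
      rw [show h = e.symm (QuotientGroup.mk ⟨U, hU⟩) from e.symm_apply_apply h ▸ congrArg e.symm hUh.symm, hmem]
      exact hcube U hU (hall U hU)
    exact ⟨(Subgroup.topEquiv.symm.trans ((MulEquiv.subgroupCongr htop).symm.trans eq₁.symm))⟩
  right
  push Not at hall
  obtain ⟨U₀, hU₀, hno⟩ := hall
  refine ⟨U₀, hU₀, fun ⟨c, hc⟩ => hno c hc, g.range, ?_, ⟨eq₁.symm⟩⟩
  let cubes : Subgroup Kˣ := (powMonoidHom 3 : Kˣ →* Kˣ).range
  let d : ↥N →* Kˣ ⧸ cubes := (QuotientGroup.mk' cubes).comp (Matrix.GeneralLinearGroup.det.comp N.subtype)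
  have hd : ∀ U : ↥N, d U = 1 ↔ ∃ c : K, (U.1 : Matrix (Fin 3) (Fin 3) K).det = c ^ 3 := by
    intro U
    refine (QuotientGroup.eq_one_iff _).trans ⟨fun ⟨c, hc⟩ => ⟨c, ?_⟩, fun ⟨c, hc⟩ => ?_⟩
    · have := congrArg Units.val hc
      simpa [Matrix.GeneralLinearGroup.val_det_apply] using this.symm
    · have hc0 : c ≠ 0 := by
        rintro rfl
        rw [zero_pow three_ne_zero] at hc
        exact ((Matrix.isUnit_iff_isUnit_det _).1 U.1.isUnit).ne_zero hc
      exact ⟨Units.mk0 c hc0, Units.ext (by simpa [Matrix.GeneralLinearGroup.val_det_apply] using hc.symm)⟩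
  have hquot : Nat.card (Kˣ ⧸ cubes) = 3 := by
    rw [← Subgroup.index_eq_card, IsCyclic.index_powMonoidHom_range]
    rcases (Nat.dvd_prime Nat.prime_three).1 (Nat.gcd_dvd_right (Nat.card Kˣ) 3) with h | h
    · exfalso
      have hsurj : Function.Surjective (powMonoidHom 3 : Kˣ →* Kˣ) :=
        (powCoprime (Nat.Coprime.symm (Nat.coprime_comm.1 h))).surjective
      obtain ⟨c, hc⟩ := hsurj (Matrix.GeneralLinearGroup.det U₀)
      exact hno c (by simpa [Matrix.GeneralLinearGroup.val_det_apply] using (congrArg Units.val hc).symm)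
    · exact h
  haveI : Fact (Nat.Prime 3) := ⟨Nat.prime_three⟩
  haveI : IsSimpleGroup (Kˣ ⧸ cubes) := isSimpleGroup_of_prime_card hquot
  have hrange : d.range = ⊤ := (Subgroup.Normal.eq_bot_or_eq_top inferInstance).resolve_left fun h => by
    have h1 : d ⟨U₀, hU₀⟩ ∈ d.range := ⟨_, rfl⟩
    rw [h, Subgroup.mem_bot, hd] at h1
    obtain ⟨c, hc⟩ := h1
    exact hno c hc
  have hk : g.range.comap (e.symm.toMonoidHom.comp (QuotientGroup.mk' (Z.subgroupOf N))) = d.ker := by
    ext U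
    rw [Subgroup.mem_comap, MonoidHom.mem_ker, hd]
    refine (hmem U.1 U.2).trans ⟨fun h => ?_, hcube U.1 U.2⟩
    obtain ⟨x, hx, z, hz, hxz⟩ := Subgroup.mem_sup_of_normal_right.1 h
    obtain ⟨c, hc⟩ := mem_scalars.1 hz
    refine ⟨c, ?_⟩
    have h1 := congrArg Units.val (show Matrix.GeneralLinearGroup.det x = 1 from hsl hx)
    rw [Matrix.GeneralLinearGroup.val_det_apply, Units.val_one] at h1
    rw [← hxz, Units.val_mul, Matrix.det_mul, h1, hc, one_mul, Matrix.det_smul, Matrix.det_one, mul_one,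
      Fintype.card_fin]
  rw [← Subgroup.index_comap_of_surjective (f := e.symm.toMonoidHom.comp (QuotientGroup.mk' (Z.subgroupOf N)))
    g.range (e.symm.surjective.comp (QuotientGroup.mk'_surjective _)), hk, Subgroup.index_ker, hrange,
    Subgroup.card_top, hquot]

/-- a non-cube which becomes a cube in an extension forces degree divisible by three -/
theorem three_dvd_of_cube {F : Type*} [Field F] [Fintype F] {p α β : ℕ} (hF : Fintype.card F = p ^ α)
    (hK : Fintype.card K = p ^ β) (hdvd : β ∣ α) (ι : K →+* F) {x : K} (hx0 : x ≠ 0)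
    (hx : ¬ ∃ c : K, x = c ^ 3) {c : F} (hc : ι x * c ^ 3 = 1) :
    3 ∣ p ^ β - 1 ∧ 3 * β ∣ α := by
  classical
  set u : Kˣ := Units.mk0 x hx0
  have hKu : Nat.card Kˣ = p ^ β - 1 := by rw [Nat.card_units, Nat.card_eq_fintype_card, hK]
  have h3 : 3 ∣ p ^ β - 1 := by
    by_contra h
    have hsurj : Function.Surjective (powMonoidHom 3 : Kˣ →* Kˣ) :=
      (powCoprime (G := Kˣ) (n := 3) (by rw [hKu]; exact ((Nat.Prime.coprime_iff_not_dvd Nat.prime_three).2 h).symm)).surjective
    obtain ⟨v, hv⟩ := hsurj u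
    exact hx ⟨v, by simpa [u] using (congrArg Units.val hv).symm⟩
  refine ⟨h3, ?_⟩
  obtain ⟨d, hd⟩ := hdvd
  suffices 3 ∣ d by rw [hd, mul_comm 3 β]; exact mul_dvd_mul_left β this
  by_contra hnd
  obtain ⟨k, hk⟩ := h3
  apply hx
  -- `c ^ (p ^ β - 1)` has order dividing three and the cofactor
  have hc0 : c ≠ 0 := fun h => by simp [h] at hc
  set y : F := (c ^ (p ^ β - 1)) with hy
  have hxc : ι x = (c⁻¹) ^ 3 := by
    rw [inv_pow]; exact eq_inv_of_mul_eq_one_left hc
  have hy3 : y ^ 3 = 1 := by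
    have h1 : x ^ (p ^ β - 1) = 1 := by rw [← hK]; exact FiniteField.pow_card_sub_one_eq_one x hx0
    have h2 := congrArg ι h1
    rw [map_pow, hxc, map_one, ← pow_mul, inv_pow, inv_eq_one] at h2
    rw [hy, ← pow_mul, mul_comm, h2]
  obtain ⟨s, hs, hs3⟩ : ∃ s, p ^ α - 1 = (p ^ β - 1) * s ∧ s % 3 = d % 3 := by
    refine ⟨∑ i ∈ Finset.range d, (p ^ β) ^ i, ?_, ?_⟩
    · rw [hd, pow_mul]
      have hpos : 1 ≤ p ^ β := by rw [← hK]; exact Fintype.card_pos
      have h := geom_sum_mul_of_one_le hpos d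
      rw [← h, mul_comm]
    · rw [Finset.sum_nat_mod]
      have hmod : p ^ β % 3 = 1 := by
        have hpos : 1 ≤ p ^ β := by rw [← hK]; exact Fintype.card_pos
        omega
      simp [Nat.pow_mod, hmod]
  have hys : y ^ s = 1 := by
    rw [hy, ← pow_mul, ← hs, ← hF]; exact FiniteField.pow_card_sub_one_eq_one c hc0
  have hy1 : y = 1 := by
    have := pow_gcd_eq_one.2 ⟨hy3, hys⟩
    rwa [Nat.Coprime.gcd_eq_one ((Nat.Prime.coprime_iff_not_dvd Nat.prime_three).2 (by omega)), pow_one] at this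
  -- so `x` is a cube
  have hxk : u ^ k = 1 := by
    refine Units.ext (ι.injective ?_)
    rw [Units.val_pow_eq_pow_val, Units.val_one, map_one, map_pow]
    show ι x ^ k = 1
    rw [hxc, ← pow_mul, ← hk, inv_pow, ← hy, hy1, inv_one]
  obtain ⟨w, hw⟩ := IsCyclic.exists_generator (α := Kˣ)
  obtain ⟨n, hn⟩ := Subgroup.mem_zpowers_iff.1 (hw u)
  have hord : orderOf w = 3 * k := by rw [orderOf_eq_card_of_forall_mem_zpowers hw, hKu, hk]
  have h1 : ((3 * k : ℕ) : ℤ) ∣ n * (k : ℤ) := by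
    rw [← hord, orderOf_dvd_iff_zpow_eq_one, _root_.zpow_mul, hn, zpow_natCast, hxk]
  have hk0 : (k : ℤ) ≠ 0 := by
    intro h
    have h' : k = 0 := by exact_mod_cast h
    rw [h', mul_zero] at hord
    exact (orderOf_pos w).ne' hord
  obtain ⟨m, hm⟩ : (3 : ℤ) ∣ n := by
    push_cast at h1
    exact Int.dvd_of_mul_dvd_mul_right hk0 h1
  refine ⟨((w ^ m : Kˣ) : K), ?_⟩
  rw [← Units.val_pow_eq_pow_val, ← zpow_natCast, ← _root_.zpow_mul]
  show (u : K) = _
  rw [← hn, hm, mul_comm]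
  rfl

end CfsgLib.Perm.Trans.ThreeBloom
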