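import Cfsg.Agent.Lib.Perm.Trans.ThreeBloom.SmallNine
import Cfsg.Agent.Lib.Perm.Trans.ThreeRes.Socle.Main

/-!
# The socles with dihedral Sylow two-subgroups: `PSL(2, 7)`, `A₆`, `A₇`
-/

set_option autoImplicit false
set_option linter.all false

namespace CfsgLib.Perm.Trans.ThreeBloom

open scoped Matrix commutatorElement
open Matrix Cfsg.Geo CfsgLib.Perm.Asch

variable {F : Type*} [Field F] [Fintype F] {H : Subgroup (Matrix.ProjectiveSpecialLinearGroup (Fin 3) F)}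
  {p α β : ℕ} {K : Type} [Field K] [Fintype K] {ι : K →+* F} {N P : Subgroup (GL (Fin 3) K)}

theorem mod_seven_of_traces {p α β : ℕ} (hdvd : β ∣ α)
    (h : (p % 7 = 1 ∨ p % 7 = 2 ∨ p % 7 = 4) ∨ (p % 7 = 3 ∨ p % 7 = 5 ∨ p % 7 = 6) ∧ β = 2) :
    (p ^ α) ^ 3 % 7 = 1 := by
  rcases h with h | ⟨h, rfl⟩
  · rw [← pow_mul, mul_comm, pow_mul, Nat.pow_mod, show p ^ 3 % 7 = 1 by
      rw [Nat.pow_mod]; rcases h with h | h | h <;> rw [h] <;> norm_num, one_pow]
    norm_num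
  · obtain ⟨k, rfl⟩ := hdvd
    rw [← pow_mul, mul_right_comm, pow_mul, Nat.pow_mod, show p ^ (2 * 3) % 7 = 1 by
      rw [Nat.pow_mod]; rcases h with h | h | h <;> rw [h] <;> norm_num, one_pow]
    norm_num

theorem mod_thirty {p α β : ℕ} (hp : Odd p) (hdvd : β ∣ α) (h : p ^ β % 15 = 1 ∨ p ^ β % 15 = 4) :
    p ^ α % 30 = 1 ∨ p ^ α % 30 = 19 := by
  obtain ⟨k, rfl⟩ := hdvd
  obtain ⟨Q, hQ⟩ : ∃ Q, Q = p ^ β := ⟨_, rfl⟩
  have hodd : Odd Q := hQ ▸ hp.pow
  rw [← hQ] at h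
  rw [pow_mul, ← hQ]
  obtain ⟨j, hj⟩ := hodd
  have h30 : Q % 30 = 1 ∨ Q % 30 = 19 := by omega
  rcases h30 with h30 | h30
  · exact Or.inl (by rw [Nat.pow_mod, h30, one_pow]; norm_num)
  · rcases Nat.even_or_odd' k with ⟨i, rfl | rfl⟩
    · exact Or.inl (by rw [Nat.pow_mod, h30, pow_mul, Nat.pow_mod]; norm_num)
    · exact Or.inr (by rw [Nat.pow_mod, h30, pow_succ, pow_mul, Nat.mul_mod, Nat.pow_mod]; norm_num)

/-- socle with dihedral Sylow two-subgroups and no quadratic form -/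
theorem case_dihedral (hm : Model H p α K β ι N P) (hp : p.Prime) (hp2 : p ≠ 2) (hQ : ¬ ThreeRes.FixesQuad P)
    (hd : ThreeRes.HasDihedralTwo P) :
    ((p ^ α) ^ 3 % 7 = 1 ∧ ∃ (L : Type) (_ : Field L) (_ : Fintype L), Fintype.card L = 7 ∧
      Nonempty (↥H ≃* Matrix.ProjectiveSpecialLinearGroup (Fin 2) L)) ∨
    (p = 5 ∧ Even α ∧ (Nonempty (↥H ≃* ↥(alternatingGroup (Fin 6))) ∨ Nonempty (↥H ≃* ↥(alternatingGroup (Fin 7))) ∨
      ∃ L : Subgroup ↥H, L.index = 2 ∧ Nonempty (↥L ≃* ↥(alternatingGroup (Fin 6))))) ∨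
    ((p ^ α % 30 = 1 ∨ p ^ α % 30 = 19) ∧ Nonempty (↥H ≃* ↥(alternatingGroup (Fin 6)))) := by
  haveI : Fact p.Prime := ⟨hp⟩
  haveI := hm.charP
  have hsq : Fintype.card K = p ^ 2 → β = 2 := fun h =>
    Nat.pow_right_injective hp.two_le (hm.card.symm.trans h)
  have hone : Fintype.card K = p → β = 1 := fun h =>
    Nat.pow_right_injective hp.two_le ((hm.card.symm.trans h).trans (pow_one p).symm)
  have heven : β = 2 → Even α := fun h => even_iff_two_dvd.2 (h ▸ hm.dvd)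
  rcases ThreeRes.Socle.socle_cases hm.quasi hd with ⟨K', i1, i2, hodd, h3, ⟨e⟩⟩ | ⟨⟨e⟩⟩
  · rcases ThreeRes.Socle.ltwo_cases (p := p) hm.quasi hodd h3 e with h | ⟨h7, hp7, hbot⟩ | ⟨h9, hp3, hne⟩
    · exact (ThreeRes.Socle.not_selfDual hm.quasi hQ h).elim
    · left
      refine ⟨mod_seven_of_traces hm.dvd ?_, K', i1, i2, h7, case_seven hm hp hp7 h7 e⟩
      rcases ThreeRes.Socle.seven_traces (p := p) hm.quasi h7 hp7 hbot e with ⟨h, -⟩ | ⟨h, ht⟩
      · exact Or.inl h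
      · exact Or.inr ⟨h, hsq (ThreeRes.Socle.card_eq_sq (p := p) hm.quasi hm.noSub hQ ht)⟩
    · right
      obtain ⟨e6⟩ := (ThreeRes.Socle.exists_order_scal hm.quasi h9 e).2.1
      let eA := e.symm.trans e6
      have hfield : (p ≠ 5 ∧ (p ^ β % 15 = 1 ∨ p ^ β % 15 = 4)) ∨ (p = 5 ∧ β = 2) := by
        by_cases h5 : p % 5 = 1 ∨ p % 5 = 4 ∨ p = 5
        · rcases ThreeRes.Socle.nine_traces hm.quasi h9 hne hp3 e h5 with ⟨h, ht⟩ | ⟨h, ht⟩
          · rw [hone (ThreeRes.Socle.card_eq_prime (p := p) hm.quasi hm.noSub ht), pow_one]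
            exact Or.inl ⟨by omega, by omega⟩
          · have hb := hsq (ThreeRes.Socle.card_eq_sq (p := p) hm.quasi hm.noSub hQ ht)
            by_cases hp5 : p = 5
            · exact Or.inr ⟨hp5, hb⟩
            · refine Or.inl ⟨hp5, Or.inl ?_⟩
              rw [hb, Nat.pow_mod]
              have : p % 15 = 11 ∨ p % 15 = 14 := by omega
              rcases this with h' | h' <;> rw [h']
        · have hp5 : p ≠ 5 := fun h => h5 (Or.inr (Or.inr h))
          have h23 : p % 5 = 2 ∨ p % 5 = 3 := by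
            have := ThreeRes.Socle.five_cases (p := p) hp5
            omega
          have hb : β = 2 := hsq ((ThreeRes.Socle.card_eq_or_sq (p := p) hm.quasi hm.noSub
            (ThreeRes.Socle.nine_sq_traces hm.quasi h9 hne hp3 e)).resolve_left fun hc => by
              obtain ⟨u, -, hu⟩ := (ThreeRes.Socle.nine_decomp hm.quasi h9 hne hp3 e).2 h23
              exact hu (by conv_lhs => rw [← hc, FiniteField.pow_card]))
          refine Or.inl ⟨hp5, Or.inr ?_⟩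
          have hn3 : p % 3 ≠ 0 := fun h =>
            hp3 ((Nat.prime_dvd_prime_iff_eq Nat.prime_three hp).1 (Nat.dvd_of_mod_eq_zero h)).symm
          rw [hb, Nat.pow_mod]
          have : p % 15 = 2 ∨ p % 15 = 7 ∨ p % 15 = 8 ∨ p % 15 = 13 := by omega
          rcases this with h' | h' | h' | h' <;> rw [h']
      rcases hfield with ⟨hp5, hQ15⟩ | ⟨hp5, hb⟩
      · refine Or.inr ⟨mod_thirty (hp.odd_of_ne_two hp2) hm.dvd hQ15, ?_⟩
        rcases case_nine hm hp h9 hne e with eH | ⟨h, -⟩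
        · exact eH.map fun e' => e'.trans eA
        · exact absurd h hp5
      · refine Or.inl ⟨hp5, heven hb, ?_⟩
        rcases case_nine hm hp h9 hne e with eH | ⟨-, L, hL, eL⟩
        · exact Or.inl (eH.map fun e' => e'.trans eA)
        · exact Or.inr (Or.inr ⟨L, hL, eL.map fun e' => e'.trans eA⟩)
  · right; left
    obtain ⟨h5, hiso⟩ := case_seventh hm hp e
    refine ⟨h5, heven ?_, Or.inr (Or.inl hiso)⟩
    subst h5
    exact hsq (ThreeRes.Socle.card_eq_sq (p := 5) hm.quasi hm.noSub hQ (ThreeRes.Socle.seventh_traces hm.quasi e))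

end CfsgLib.Perm.Trans.ThreeBloom
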