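import Cfsg.Agent.Lib.Perm.Trans.ThreeBloom.Descent
import Cfsg.Agent.Lib.Perm.Trans.ThreeRes.Socle.Galois

/-!
# The automorphisms induced on a small socle

The group is isomorphic to the group of automorphisms it induces on a model of the socle modulo
scalars. These automorphisms preserve the traces of lifts of order prime to three and the commutators
of lifts.
-/

set_option autoImplicit false
set_option linter.all false

namespace CfsgLib.Perm.Trans.ThreeBloom

open scoped Matrix commutatorElement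
open Matrix Cfsg.Geo CfsgLib.Perm.Asch
open CfsgLib.Perm.Trans.ThreeRes.Socle (tr)

universe v

variable {F : Type*} [Field F] [Fintype F] {H : Subgroup (Matrix.ProjectiveSpecialLinearGroup (Fin 3) F)}
  {p α β : ℕ} {K : Type} [Field K] [Fintype K] {ι : K →+* F} {N P : Subgroup (GL (Fin 3) K)}

/-- a group of automorphisms of `M` compatible with the socle -/
structure Induced {M : Type v} [Group M] (π : ↥P →* M) (R : Subgroup (MulAut M)) : Prop where
  conj : ∀ m : M, MulAut.conj m ∈ R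
  traces : ∀ β ∈ R, ∀ (x y : ↥P) (n : ℕ), β (π x) = π y → x ^ n = 1 → y ^ n = 1 → ¬ 3 ∣ n → tr y = tr x
  comms : ∀ β ∈ R, ∀ a b a' b' : ↥P, β (π a) = π a' → β (π b) = π b' → ⁅a, b⁆ ∈ ThreeRes.Socle.scal P → ⁅a', b'⁆ = ⁅a, b⁆

theorem Model.exists_induced {M : Type v} [Group M] (hm : Model H p α K β ι N P) (e : (↥P ⧸ ThreeRes.Socle.scal P) ≃* M) :
    ∃ R : Subgroup (MulAut M), Induced (e.toMonoidHom.comp (QuotientGroup.mk' (ThreeRes.Socle.scal P))) R ∧
      Nonempty (↥H ≃* ↥R) := by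
  classical
  obtain ⟨eH⟩ := hm.iso
  haveI : ((scalars (Fin 3) K).subgroupOf N).Normal := scalars_normal.comap N.subtype
  let c : ↥N →* MulAut ↥P :=
    { toFun := fun U =>
        { toFun := fun x => ⟨U.1 * x.1 * U.1⁻¹, hm.norm U.1 U.2 x.1 x.2⟩
          invFun := fun x => ⟨U.1⁻¹ * x.1 * U.1, by simpa using hm.norm U.1⁻¹ (N.inv_mem U.2) x.1 x.2⟩
          left_inv := fun x => Subtype.ext (by simp [mul_assoc])
          right_inv := fun x => Subtype.ext (by simp [mul_assoc])
          map_mul' := fun x y => Subtype.ext (by simp [mul_assoc]) }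
      map_one' := MulEquiv.ext fun x => Subtype.ext (by simp)
      map_mul' := fun U V => MulEquiv.ext fun x => Subtype.ext (by simp [mul_assoc]) }
  have hsc : ∀ (U : ↥N), ∀ z ∈ ThreeRes.Socle.scal P, c U z = z := fun U z hz => by
    refine Subtype.ext ?_
    show U.1 * z.1 * U.1⁻¹ = z.1
    rw [← scalar_central (Subgroup.mem_subgroupOf.1 hz) U.1, mul_inv_cancel_right]
  have hmap : ∀ U : ↥N, (ThreeRes.Socle.scal P).map (c U).toMonoidHom = ThreeRes.Socle.scal P := by
    intro U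
    refine le_antisymm ?_ fun z hz => ⟨z, hz, hsc U z hz⟩
    rintro _ ⟨z, hz, rfl⟩
    exact (hsc U z hz).symm ▸ hz
  let cq : ↥N →* MulAut (↥P ⧸ ThreeRes.Socle.scal P) :=
    { toFun := fun U => QuotientGroup.congr _ _ (c U) (hmap U)
      map_one' := MulEquiv.ext fun q => by
        obtain ⟨x, rfl⟩ := QuotientGroup.mk'_surjective _ q
        show QuotientGroup.mk (c 1 x) = QuotientGroup.mk x
        rw [map_one, MulAut.one_apply]
      map_mul' := fun U V => MulEquiv.ext fun q => by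
        obtain ⟨x, rfl⟩ := QuotientGroup.mk'_surjective _ q
        show QuotientGroup.mk (c (U * V) x) = QuotientGroup.mk (c U (c V x))
        rw [map_mul, MulAut.mul_apply] }
  let π : ↥P →* M := e.toMonoidHom.comp (QuotientGroup.mk' (ThreeRes.Socle.scal P))
  have hπsurj : Function.Surjective π := e.surjective.comp (QuotientGroup.mk'_surjective _)
  have hπker : ∀ x y : ↥P, π x = π y → x⁻¹ * y ∈ ThreeRes.Socle.scal P := fun x y h => QuotientGroup.eq.1 (e.injective h)
  let Φ : ↥N →* MulAut M := (MulAut.congr e).toMonoidHom.comp cq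
  have hΦ : ∀ (U : ↥N) (x : ↥P), Φ U (π x) = π (c U x) := fun U x => by
    show e (cq U (e.symm (e (QuotientGroup.mk x)))) = _
    rw [e.symm_apply_apply]
    rfl
  have hker : Φ.ker = (scalars (Fin 3) K).subgroupOf N := by
    ext U
    rw [MonoidHom.mem_ker, Subgroup.mem_subgroupOf]
    constructor
    · intro h
      refine hm.cent U.1 U.2 fun v hv => ?_
      have h1 := hπker _ _ (hΦ U ⟨v, hv⟩ ▸ (congrArg (fun a : MulAut M => a (π ⟨v, hv⟩)) h))
      have h2 := inv_mem (Subgroup.mem_subgroupOf.1 h1)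
      have h3 : ((c U ⟨v, hv⟩)⁻¹ * (⟨v, hv⟩ : ↥P) : ↥P).1⁻¹ = v⁻¹ * (U.1 * v * U.1⁻¹) := by
        simp [c, mul_assoc]
      rw [h3] at h2
      have h4 := scalars_normal.conj_mem _ h2 v
      simpa [mul_assoc] using h4
    · intro h
      refine MulEquiv.ext fun m => ?_
      obtain ⟨x, rfl⟩ := hπsurj m
      rw [hΦ, MulAut.one_apply]
      refine congrArg π (Subtype.ext ?_)
      show U.1 * x.1 * U.1⁻¹ = x.1
      rw [scalar_central h x.1, mul_inv_cancel_right]
  refine ⟨Φ.range, ⟨fun m => ?_, ?_, ?_⟩, ⟨eH.trans ((QuotientGroup.quotientMulEquivOfEq hker.symm).trans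
    (QuotientGroup.quotientKerEquivRange Φ))⟩⟩
  · obtain ⟨v, rfl⟩ := hπsurj m
    refine ⟨⟨v.1, hm.le v.2⟩, MulEquiv.ext fun y => ?_⟩
    obtain ⟨x, rfl⟩ := hπsurj y
    rw [hΦ, MulAut.conj_apply, ← map_inv, ← map_mul, ← map_mul]
    rfl
  · rintro _ ⟨U, rfl⟩ x y n hxy hx hy h3
    rw [hΦ] at hxy
    obtain ⟨z, hz⟩ : ∃ z, z = (c U x)⁻¹ * y := ⟨_, rfl⟩
    have hzs : z ∈ ThreeRes.Socle.scal P := hz ▸ hπker _ _ hxy
    have hy' : y = c U x * z := by rw [hz, mul_inv_cancel_left]
    have hz3 := ThreeRes.Socle.scal_cube hm.quasi hzs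
    have hzn : z ^ n = 1 := by
      have hc : Commute (c U x) z := ThreeRes.Socle.scal_comm hm.quasi hzs _
      rwa [hy', hc.mul_pow, ← map_pow, hx, map_one, one_mul] at hy
    have hz1 : z = 1 := orderOf_eq_one_iff.1 (Nat.eq_one_of_dvd_coprimes
      ((Nat.prime_three.coprime_iff_not_dvd).2 h3) (orderOf_dvd_of_pow_eq_one hz3) (orderOf_dvd_of_pow_eq_one hzn))
    rw [hy', hz1, mul_one]
    show ((U.1 * x.1 * U.1⁻¹ : GL (Fin 3) K) : Matrix (Fin 3) (Fin 3) K).trace = _
    rw [Units.val_mul, Units.val_mul, Matrix.trace_mul_comm, ← Matrix.mul_assoc, Units.inv_mul, Matrix.one_mul]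
    rfl
  · rintro _ ⟨U, rfl⟩ a b a' b' ha hb hab
    rw [hΦ] at ha hb
    obtain ⟨z, hz⟩ : ∃ z, z = (c U a)⁻¹ * a' := ⟨_, rfl⟩
    obtain ⟨w, hw⟩ : ∃ w, w = (c U b)⁻¹ * b' := ⟨_, rfl⟩
    have hzs : z ∈ ThreeRes.Socle.scal P := hz ▸ hπker _ _ ha
    have hws : w ∈ ThreeRes.Socle.scal P := hw ▸ hπker _ _ hb
    have hzc := ThreeRes.Socle.scal_comm hm.quasi hzs
    have hwc := ThreeRes.Socle.scal_comm hm.quasi hws
    rw [show a' = c U a * z by rw [hz, mul_inv_cancel_left], show b' = c U b * w by rw [hw, mul_inv_cancel_left]]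
    have e1 : ⁅c U a * z, c U b * w⁆ = ⁅c U a, c U b⁆ := by
      simp only [commutatorElement_def, _root_.mul_inv_rev]
      calc c U a * z * (c U b * w) * (z⁻¹ * (c U a)⁻¹) * (w⁻¹ * (c U b)⁻¹)
          = c U a * (z * (c U b * w)) * z⁻¹ * (c U a)⁻¹ * w⁻¹ * (c U b)⁻¹ := by group
        _ = c U a * (c U b * w * z) * z⁻¹ * (c U a)⁻¹ * w⁻¹ * (c U b)⁻¹ := by rw [← hzc]
        _ = c U a * c U b * (w * (c U a)⁻¹) * w⁻¹ * (c U b)⁻¹ := by group
        _ = c U a * c U b * ((c U a)⁻¹ * w) * w⁻¹ * (c U b)⁻¹ := by rw [← hwc]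
        _ = _ := by group
    rw [e1, ← map_commutatorElement, hsc U _ hab]

/-- when only inner automorphisms are induced the group is the socle -/
theorem equiv_of_inner {M : Type v} [Group M] [IsSimpleGroup M] (hna : ¬ IsMulCommutative M) {G : Type*} [Group G]
    {R : Subgroup (MulAut M)} (hc : ∀ m : M, MulAut.conj m ∈ R)
    (hR : ∀ β ∈ R, β ∈ (MulAut.conj : M →* MulAut M).range) (e : G ≃* ↥R) :
    Nonempty (G ≃* M) := by
  have hinj : Function.Injective (MulAut.conj : M →* MulAut M) := by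
    rw [← MonoidHom.ker_eq_bot_iff]
    refine (IsSimpleGroup.eq_bot_or_eq_top_of_normal _ inferInstance).resolve_right fun h => hna ⟨⟨fun a b => ?_⟩⟩
    have ha : MulAut.conj a = 1 := by
      rw [← MonoidHom.mem_ker, h]; exact Subgroup.mem_top a
    have := congrArg (fun β : MulAut M => β b) ha
    simpa [mul_inv_eq_iff_eq_mul] using this
  have hrange : R = (MulAut.conj : M →* MulAut M).range :=
    le_antisymm hR fun β ⟨m, hm⟩ => hm ▸ hc m
  exact ⟨e.trans ((MulEquiv.subgroupCongr hrange).trans (MonoidHom.ofInjective hinj).symm)⟩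

end CfsgLib.Perm.Trans.ThreeBloom
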