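import Cfsg.Agent.Lib.Perm.Trans.ThreeBloom.Solvable
import Cfsg.Agent.Lib.Classical.SL2Sylow
import Cfsg.Agent.Lib.FT.NoMinSimple

/-!
# Perfect subgroups of degree three without solvable normal subgroups are absolutely irreducible

In odd characteristic such a group fixes no vector: it would embed in `SL(2)` and the involution
there would be central.
-/

set_option autoImplicit false
set_option linter.all false

namespace CfsgLib.Perm.Trans.ThreeBloom

open scoped Matrix commutatorElement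
open Matrix Cfsg.Geo CfsgLib.Perm.Asch

variable {F : Type*} [Field F]

/-- conjugation-invariance of the hypotheses -/
theorem NoRad.map_equiv {X : Subgroup (GL (Fin 3) F)} (e : GL (Fin 3) F ≃* GL (Fin 3) F)
    (he : ∀ g, g ∈ scalars (Fin 3) F → e g ∈ scalars (Fin 3) F) (h : NoRad X) : NoRad (X.map e.toMonoidHom) := by
  intro K hK hKn hKs
  have h1 : K.comap e.toMonoidHom ≤ X := by
    intro k hk
    obtain ⟨x, hx, hxk⟩ := hK hk
    rwa [← e.injective hxk]
  have h2 : NormG X (K.comap e.toMonoidHom) := by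
    intro g hg k hk
    rw [Subgroup.mem_comap, MulEquiv.coe_toMonoidHom, map_mul, map_mul, map_inv]
    exact hKn (e g) ⟨g, hg, rfl⟩ _ hk
  haveI := hKs
  have h3 : Group.IsSolvable (K.comap e.toMonoidHom) :=
    Group.isSolvable_of_isSolvable_injective (f := (e.toMonoidHom.subgroupComap K)) fun a b hab =>
      Subtype.ext (e.injective (congrArg Subtype.val hab))
  intro k hk
  have := he _ (h _ h1 h2 h3 (show e.symm k ∈ K.comap e.toMonoidHom by simpa using hk))
  simpa using this

/-- transpose inverse -/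
noncomputable def theta : GL (Fin 3) F ≃* GL (Fin 3) F where
  toFun g := ⟨((g⁻¹ : GL (Fin 3) F) : Matrix (Fin 3) (Fin 3) F)ᵀ, (g : Matrix (Fin 3) (Fin 3) F)ᵀ,
    by rw [← transpose_mul, gl_mul_inv, transpose_one], by rw [← transpose_mul, gl_inv_mul, transpose_one]⟩
  invFun g := ⟨((g⁻¹ : GL (Fin 3) F) : Matrix (Fin 3) (Fin 3) F)ᵀ, (g : Matrix (Fin 3) (Fin 3) F)ᵀ,
    by rw [← transpose_mul, gl_mul_inv, transpose_one], by rw [← transpose_mul, gl_inv_mul, transpose_one]⟩
  left_inv g := Units.ext (transpose_transpose _)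
  right_inv g := Units.ext (transpose_transpose _)
  map_mul' g h := Units.ext (by
    show ((((g * h)⁻¹ : GL (Fin 3) F)) : Matrix (Fin 3) (Fin 3) F)ᵀ = _
    rw [_root_.mul_inv_rev, Units.val_mul, transpose_mul]
    rfl)

theorem theta_coe (g : GL (Fin 3) F) :
    ((theta g : GL (Fin 3) F) : Matrix (Fin 3) (Fin 3) F) = ((g⁻¹ : GL (Fin 3) F) : Matrix (Fin 3) (Fin 3) F)ᵀ := rfl

theorem theta_scalars (g : GL (Fin 3) F) (hg : g ∈ scalars (Fin 3) F) : theta g ∈ scalars (Fin 3) F := by
  obtain ⟨c, hc⟩ := mem_scalars.1 (inv_mem hg)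
  exact mem_scalars.2 ⟨c, by rw [theta_coe, hc, transpose_smul, transpose_one]⟩

theorem map_theta_sl {X : Subgroup (GL (Fin 3) F)} (h : X ≤ specialLinear (Fin 3) F) :
    X.map theta.toMonoidHom ≤ specialLinear (Fin 3) F := by
  rintro _ ⟨g, hg, rfl⟩
  have h1 := congrArg Units.val (show Matrix.GeneralLinearGroup.det g⁻¹ = 1 from h (X.inv_mem hg))
  refine Units.ext ?_
  rw [Matrix.GeneralLinearGroup.val_det_apply] at h1 ⊢
  show (((g⁻¹ : GL (Fin 3) F) : Matrix (Fin 3) (Fin 3) F)ᵀ).det = 1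
  rw [det_transpose, h1, Units.val_one]

variable [Fintype F]

/-- a perfect group without solvable normal subgroups fixes no vector -/
theorem not_fixed_single (h2 : (2 : F) ≠ 0) {X : Subgroup (GL (Fin 3) F)} (hrad : NoRad X)
    (hperf : ⁅X, X⁆ = X) (hs : ¬ X ≤ scalars (Fin 3) F) (hsl : X ≤ specialLinear (Fin 3) F) (i : Fin 3)
    (hfix : ∀ g ∈ X, (g : Matrix (Fin 3) (Fin 3) F) *ᵥ Pi.single i 1 = Pi.single i 1) : False := by
  classical
  have hcol : ∀ g ∈ X, ∀ j, (g : Matrix (Fin 3) (Fin 3) F) j i = if j = i then 1 else 0 := by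
    intro g hg j
    have := congrFun (hfix g hg) j
    simpa [Pi.single_apply] using this
  let blk : Matrix (Fin 3) (Fin 3) F → Matrix (Fin 2) (Fin 2) F := fun g => g.submatrix i.succAbove i.succAbove
  have hblk_mul : ∀ g ∈ X, ∀ M : Matrix (Fin 3) (Fin 3) F,
      blk ((g : Matrix (Fin 3) (Fin 3) F) * M) = blk g * blk M := by
    intro g hg M
    ext a b
    simp only [blk, submatrix_apply, Matrix.mul_apply]
    rw [Fin.sum_univ_succAbove _ i, hcol g hg, if_neg (Fin.succAbove_ne i a), zero_mul, zero_add]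
  have hdet : ∀ g ∈ X, (blk (g : Matrix (Fin 3) (Fin 3) F)).det = 1 := by
    intro g hg
    have h1 := congrArg Units.val (show Matrix.GeneralLinearGroup.det g = 1 from hsl hg)
    rw [Matrix.GeneralLinearGroup.val_det_apply, Units.val_one, Matrix.det_succ_column _ i,
      Finset.sum_eq_single i (fun b _ hb => by rw [hcol g hg, if_neg hb, mul_zero, zero_mul])
        (fun h => absurd (Finset.mem_univ i) h), hcol g hg, if_pos rfl, mul_one, ← two_mul, pow_mul,
      neg_one_sq, one_pow, one_mul] at h1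
    exact h1
  let ρ : X →* Matrix.SpecialLinearGroup (Fin 2) F :=
    { toFun := fun g => ⟨blk g.1, hdet g.1 g.2⟩
      map_one' := by
        apply Subtype.ext
        simp [blk, Fin.succAbove_right_injective.eq_iff, Matrix.submatrix_one _ Fin.succAbove_right_injective]
      map_mul' := fun g h => Subtype.ext (by
        show blk ((g.1 * h.1 : GL (Fin 3) F) : Matrix (Fin 3) (Fin 3) F) = blk g.1 * blk h.1
        rw [Units.val_mul, hblk_mul g.1 g.2]) }
  have hscal : ∀ g ∈ X, g ∈ scalars (Fin 3) F → g = 1 := by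
    intro g hg hgs
    obtain ⟨c, hc⟩ := mem_scalars.1 hgs
    have h1 := hcol g hg i
    rw [hc, if_pos rfl] at h1
    simp at h1
    refine Units.ext ?_
    rw [hc, h1]
    simp
  -- the kernel is abelian
  have hker : ρ.ker = ⊥ := by
    rw [Subgroup.eq_bot_iff_forall]
    intro g hg
    have hle : ρ.ker.map X.subtype ≤ scalars (Fin 3) F := by
      refine hrad _ (Subgroup.map_subtype_le _) ?_ ?_
      · rintro a ha _ ⟨k, hk, rfl⟩
        exact ⟨⟨a, ha⟩ * k * ⟨a, ha⟩⁻¹, (inferInstance : ρ.ker.Normal).conj_mem k hk _, rfl⟩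
      · have hentry : ∀ k ∈ ρ.ker, ∀ a b, (k.1 : Matrix (Fin 3) (Fin 3) F) (i.succAbove a) b =
            (1 : Matrix (Fin 3) (Fin 3) F) (i.succAbove a) b := by
          intro k hk a b
          rcases eq_or_ne b i with rfl | hb
          · rw [hcol k.1 k.2, Matrix.one_apply]
          · obtain ⟨b', rfl⟩ := Fin.exists_succAbove_eq hb
            have := congrArg (fun M : Matrix.SpecialLinearGroup (Fin 2) F => M.1 a b') (MonoidHom.mem_ker.1 hk)
            change (k.1 : Matrix (Fin 3) (Fin 3) F) (i.succAbove a) (i.succAbove b') =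
              (1 : Matrix (Fin 2) (Fin 2) F) a b' at this
            rw [this]
            simp [Matrix.one_apply, Fin.succAbove_right_injective.eq_iff]
        refine isSolvable_of_comm fun x y => ?_
        obtain ⟨_, k, hk, rfl⟩ := x
        obtain ⟨_, l, hl, rfl⟩ := y
        refine Subtype.ext (Units.ext ?_)
        show (k.1 : Matrix (Fin 3) (Fin 3) F) * (l.1 : Matrix (Fin 3) (Fin 3) F) =
          (l.1 : Matrix (Fin 3) (Fin 3) F) * (k.1 : Matrix (Fin 3) (Fin 3) F)
        ext r b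
        simp only [Matrix.mul_apply, Fin.sum_univ_succAbove _ i, hentry k hk, hentry l hl, hcol k.1 k.2,
          hcol l.1 l.2]
        rcases eq_or_ne r i with rfl | hr
        · rcases eq_or_ne b r with rfl | hb
          · simp [hcol k.1 k.2, hcol l.1 l.2, Fin.succAbove_ne]
          · obtain ⟨b', rfl⟩ := Fin.exists_succAbove_eq hb
            simp [Matrix.one_apply, Fin.succAbove_right_injective.eq_iff, (Fin.succAbove_ne r b').symm]
            ring
        · obtain ⟨r', rfl⟩ := Fin.exists_succAbove_eq hr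
          simp [hentry k hk, hentry l hl, Fin.succAbove_ne, Matrix.one_apply, Fin.succAbove_right_injective.eq_iff]
    exact Subtype.ext (hscal g.1 g.2 (hle ⟨g, hg, rfl⟩))
  -- an involution
  have hns := hrad.not_solvable hs
  have heven : 2 ∣ Nat.card X := by
    rcases Nat.even_or_odd (Nat.card X) with h | h
    · exact h.two_dvd
    · exact absurd (CfsgLib.FT.isSolvable_of_odd X h) hns
  haveI : Fact (Nat.Prime 2) := ⟨Nat.prime_two⟩
  obtain ⟨t, ht⟩ := exists_prime_orderOf_dvd_card' 2 heven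
  have ht1 : t ≠ 1 := fun h => by simp [h] at ht
  have hinj : Function.Injective ρ := (MonoidHom.ker_eq_bot_iff ρ).1 hker
  have hρ : (ρ t).1 = -1 := CfsgLib.Classical.involution_eq_neg_one h2
    (fun h => ht1 (hinj (h.trans (map_one ρ).symm)))
    (by rw [← map_mul, ← pow_two, orderOf_dvd_iff_pow_eq_one.1 (dvd_of_eq ht), map_one])
  have hcen : ∀ x : X, x * t = t * x := fun x => hinj (Subtype.ext (by
    rw [map_mul, map_mul, Matrix.SpecialLinearGroup.coe_mul, Matrix.SpecialLinearGroup.coe_mul, hρ,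
      mul_neg, neg_mul, mul_one, one_mul]))
  refine ht1 (Subtype.ext (hscal t.1 t.2 ?_))
  refine hrad ((Subgroup.zpowers t).map X.subtype) (Subgroup.map_subtype_le _) ?_ ?_
    ⟨t, Subgroup.mem_zpowers t, rfl⟩
  · rintro a ha _ ⟨k, hk, rfl⟩
    obtain ⟨n, rfl⟩ := Subgroup.mem_zpowers_iff.1 hk
    refine ⟨t ^ n, Subgroup.zpow_mem_zpowers t n, ?_⟩
    have h := (Commute.zpow_right (hcen ⟨a, ha⟩) n).eq
    have h' := congrArg Subtype.val h
    simp only [Subgroup.coe_mul, SubgroupClass.coe_zpow] at h'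
    show (t.1 : GL (Fin 3) F) ^ n = a * t.1 ^ n * a⁻¹
    rw [h']
    simp
  · refine isSolvable_of_comm fun x y => ?_
    obtain ⟨_, k, hk, rfl⟩ := x
    obtain ⟨_, l, hl, rfl⟩ := y
    obtain ⟨n, rfl⟩ := Subgroup.mem_zpowers_iff.1 hk
    obtain ⟨m, rfl⟩ := Subgroup.mem_zpowers_iff.1 hl
    refine Subtype.ext ?_
    show X.subtype (t ^ n) * X.subtype (t ^ m) = X.subtype (t ^ m) * X.subtype (t ^ n)
    rw [← map_mul, ← map_mul, ((Commute.refl t).zpow_zpow n m).eq]

/-- a perfect group without solvable normal subgroups has no common eigenvector -/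
theorem not_eigen (h2 : (2 : F) ≠ 0) {X : Subgroup (GL (Fin 3) F)} (hrad : NoRad X)
    (hperf : ⁅X, X⁆ = X) (hs : ¬ X ≤ scalars (Fin 3) F) (hsl : X ≤ specialLinear (Fin 3) F)
    (v : Fin 3 → F) (hv : v ≠ 0)
    (he : ∀ g ∈ X, ∃ c : F, (g : Matrix (Fin 3) (Fin 3) F) *ᵥ v = c • v) : False := by
  classical
  obtain ⟨i, hi⟩ : ∃ i, v i ≠ 0 := by
    by_contra h
    push Not at h
    exact hv (funext h)
  have hfix : ∀ g ∈ X, (g : Matrix (Fin 3) (Fin 3) F) *ᵥ v = v := by
    intro g hg
    let S : Subgroup (GL (Fin 3) F) :=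
      { carrier := {g | (g : Matrix (Fin 3) (Fin 3) F) *ᵥ v = v}
        mul_mem' := fun {a b} ha hb => by
          show ((a * b : GL (Fin 3) F) : Matrix (Fin 3) (Fin 3) F) *ᵥ v = v
          rw [Units.val_mul, ← mulVec_mulVec, hb, ha]
        one_mem' := by show ((1 : GL (Fin 3) F) : Matrix (Fin 3) (Fin 3) F) *ᵥ v = v; simp
        inv_mem' := fun {a} ha => by
          show ((a⁻¹ : GL (Fin 3) F) : Matrix (Fin 3) (Fin 3) F) *ᵥ v = v
          conv_lhs => arg 2; rw [← ha]
          rw [mulVec_mulVec, gl_inv_mul, one_mulVec] }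
    suffices ⁅X, X⁆ ≤ S from this (hperf.symm ▸ hg)
    rw [Subgroup.commutator_le]
    intro a ha b hb
    obtain ⟨c, hc⟩ := he a ha
    obtain ⟨d, hd⟩ := he b hb
    obtain ⟨c', hc'⟩ := he a⁻¹ (X.inv_mem ha)
    obtain ⟨d', hd'⟩ := he b⁻¹ (X.inv_mem hb)
    have e1 : (c' * c) • v = v := by
      have := congrArg (((a⁻¹ : GL (Fin 3) F) : Matrix (Fin 3) (Fin 3) F) *ᵥ ·) hc
      simp only [mulVec_mulVec, gl_inv_mul, one_mulVec, mulVec_smul, hc', smul_smul] at this
      rw [mul_comm]; exact this.symm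
    have e2 : (d' * d) • v = v := by
      have := congrArg (((b⁻¹ : GL (Fin 3) F) : Matrix (Fin 3) (Fin 3) F) *ᵥ ·) hd
      simp only [mulVec_mulVec, gl_inv_mul, one_mulVec, mulVec_smul, hd', smul_smul] at this
      rw [mul_comm]; exact this.symm
    show ((⁅a, b⁆ : GL (Fin 3) F) : Matrix (Fin 3) (Fin 3) F) *ᵥ v = v
    rw [commutatorElement_def, Units.val_mul, Units.val_mul, Units.val_mul, ← mulVec_mulVec, ← mulVec_mulVec,
      ← mulVec_mulVec]
    simp only [hd', mulVec_smul, hc', hd, hc, smul_smul]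
    rw [show d' * c' * d * c = c' * c * (d' * d) by ring, ← smul_smul, e2, e1]
  -- change of basis
  set B : Matrix (Fin 3) (Fin 3) F := (1 : Matrix (Fin 3) (Fin 3) F).updateCol i v
  have hB : B.det ≠ 0 := by
    rw [← Matrix.cramer_apply, Matrix.cramer_one]
    exact hi
  set b : GL (Fin 3) F := Matrix.GeneralLinearGroup.mkOfDetNeZero B hB
  have hbv : (b : Matrix (Fin 3) (Fin 3) F) *ᵥ Pi.single i 1 = v := by
    rw [Matrix.mulVec_single_one]
    funext j
    show B j i = v j
    simp [B]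
  let e := MulAut.conj b⁻¹
  have hes : ∀ g, g ∈ scalars (Fin 3) F → e g ∈ scalars (Fin 3) F := fun g hg => scalars_normal.conj_mem g hg b⁻¹
  refine not_fixed_single h2 (X := X.map e.toMonoidHom) (hrad.map_equiv e hes) ?_ ?_ ?_ i ?_
  · rw [← Subgroup.map_commutator, hperf]
  · intro hle
    refine hs fun g hg => ?_
    have := scalars_normal.conj_mem _ (hle ⟨g, hg, rfl⟩) b
    simpa [e, mul_assoc] using this
  · rintro _ ⟨g, hg, rfl⟩
    exact (MonoidHom.normal_ker _).conj_mem g (hsl hg) b⁻¹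
  · rintro _ ⟨g, hg, rfl⟩
    simp only [e, MulEquiv.coe_toMonoidHom, MulAut.conj_apply, inv_inv, Units.val_mul]
    rw [← mulVec_mulVec, hbv, ← mulVec_mulVec, hfix g hg]
    conv_lhs => arg 2; rw [← hbv]
    rw [mulVec_mulVec, gl_inv_mul, one_mulVec]

/-- a perfect group without solvable normal subgroups is irreducible -/
theorem irred_of_noRad (h2 : (2 : F) ≠ 0) {X : Subgroup (GL (Fin 3) F)} (hrad : NoRad X)
    (hperf : ⁅X, X⁆ = X) (hs : ¬ X ≤ scalars (Fin 3) F) (hsl : X ≤ specialLinear (Fin 3) F) :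
    Irred X := by
  intro W hW
  by_contra hne
  push Not at hne
  have hWg : ∀ g ∈ X, ∀ w ∈ W, (g : Matrix (Fin 3) (Fin 3) F) *ᵥ w ∈ W := fun g hg w hw =>
    hW _ ⟨g, hg, rfl⟩ ⟨w, hw, rfl⟩
  have h3 : Module.finrank F (Fin 3 → F) = 3 := Module.finrank_fin_fun F
  have hlt := Submodule.finrank_lt hne.2
  have hpos : Module.finrank F W ≠ 0 := fun h => hne.1 (Submodule.finrank_eq_zero.1 h)
  rw [h3] at hlt
  rcases (show Module.finrank F W = 1 ∨ Module.finrank F W = 2 by omega) with h1 | h2'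
  · obtain ⟨v, hv, hspan⟩ := finrank_eq_one_iff'.1 h1
    refine not_eigen h2 hrad hperf hs hsl v.1 (fun h => hv (Subtype.ext h)) fun g hg => ?_
    obtain ⟨c, hc⟩ := hspan ⟨_, hWg g hg v.1 v.2⟩
    exact ⟨c, (congrArg Subtype.val hc).symm⟩
  · have ha : Module.finrank F W.dualAnnihilator = 1 := by
      have := Subspace.finrank_add_finrank_dualAnnihilator_eq W
      omega
    set U : Submodule F (Fin 3 → F) :=
      W.dualAnnihilator.map ((dotProductEquiv F (Fin 3)).symm : Module.Dual F (Fin 3 → F) →ₗ[F] (Fin 3 → F)) with hU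
    have hUmem : ∀ x, x ∈ U ↔ ∀ w ∈ W, x ⬝ᵥ w = 0 := by
      intro x
      rw [hU, Submodule.mem_map]
      constructor
      · rintro ⟨φ, hφ, rfl⟩ w hw
        have := LinearMap.congr_fun ((dotProductEquiv F (Fin 3)).apply_symm_apply φ) w
        exact this.trans ((Submodule.mem_dualAnnihilator _).1 hφ w hw)
      · intro h
        exact ⟨dotProductEquiv F (Fin 3) x, (Submodule.mem_dualAnnihilator _).2 h,
          (dotProductEquiv F (Fin 3)).symm_apply_apply x⟩
    have hU1 : Module.finrank F U = 1 := by rw [hU, LinearEquiv.finrank_map_eq, ha]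
    obtain ⟨u, hu, hspan⟩ := finrank_eq_one_iff'.1 hU1
    refine not_eigen h2 (X := X.map theta.toMonoidHom) (hrad.map_equiv _ theta_scalars)
      (by rw [← Subgroup.map_commutator, hperf]) (fun hle => hs fun g hg => ?_) (map_theta_sl hsl) u.1
      (fun h => hu (Subtype.ext h)) ?_
    · have := theta_scalars _ (hle ⟨g, hg, rfl⟩)
      rwa [MulEquiv.coe_toMonoidHom, show theta (theta g) = g from theta.left_inv g] at this
    · rintro _ ⟨g, hg, rfl⟩
      have hmem : ((g⁻¹ : GL (Fin 3) F) : Matrix (Fin 3) (Fin 3) F)ᵀ *ᵥ u.1 ∈ U := by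
        rw [hUmem]
        intro w hw
        rw [Matrix.mulVec_transpose, ← Matrix.dotProduct_mulVec]
        exact (hUmem _).1 u.2 _ (hWg _ (X.inv_mem hg) w hw)
      obtain ⟨c, hc⟩ := hspan ⟨_, hmem⟩
      exact ⟨c, (congrArg Subtype.val hc).symm⟩

/-- a perfect irreducible group of degree three without solvable normal subgroups is absolutely irreducible -/
theorem absIrr_of_noRad (h2 : (2 : F) ≠ 0) {X : Subgroup (GL (Fin 3) F)} (hrad : NoRad X)
    (hperf : ⁅X, X⁆ = X) (hs : ¬ X ≤ scalars (Fin 3) F) (hsl : X ≤ specialLinear (Fin 3) F) :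
    AbsIrr X := by
  have hI := irred_of_noRad h2 hrad hperf hs hsl
  refine ⟨hI, fun m hm => ?_⟩
  have hkerInv : ∀ q : Matrix (Fin 3) (Fin 3) F, (∀ g ∈ X, q * (g : Matrix (Fin 3) (Fin 3) F) =
      (g : Matrix (Fin 3) (Fin 3) F) * q) → ∀ v : Fin 3 → F, v ≠ 0 → q *ᵥ v = 0 → q = 0 := by
    intro q hq v hv hqv
    rcases hI.eq_bot_or_top (LinearMap.ker (Matrix.toLin' q)) (fun g hg w hw => by
      rw [LinearMap.mem_ker, Matrix.toLin'_apply] at hw ⊢
      rw [mulVec_mulVec, hq g hg, ← mulVec_mulVec, hw, mulVec_zero]) with h | h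
    · have : v ∈ LinearMap.ker (Matrix.toLin' q) := hqv
      rw [h, Submodule.mem_bot] at this
      exact absurd this hv
    · exact Matrix.toLin'.map_eq_zero_iff.1 (LinearMap.ker_eq_top.1 h)
  have hm' : ∀ g ∈ X, m * (g : Matrix (Fin 3) (Fin 3) F) = (g : Matrix (Fin 3) (Fin 3) F) * m :=
    fun g hg => hm _ ⟨g, hg, rfl⟩
  have hpoly : ∀ r : Polynomial F, ∀ g ∈ X, Polynomial.aeval m r * (g : Matrix (Fin 3) (Fin 3) F) =
      (g : Matrix (Fin 3) (Fin 3) F) * Polynomial.aeval m r := fun r g hg =>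
    (Commute.symm (Algebra.commute_of_mem_adjoin_singleton_of_commute
      (Polynomial.aeval_mem_adjoin_singleton F m) (Commute.symm (hm' g hg)))).eq
  by_contra hsc
  push Not at hsc
  have hroot : ∀ c : F, ¬ m.charpoly.IsRoot c := by
    intro c hc
    rw [Polynomial.IsRoot, Matrix.eval_charpoly] at hc
    obtain ⟨v, hv, hv0⟩ := Matrix.exists_mulVec_eq_zero_iff.2 hc
    refine hsc c ?_
    have := hkerInv (Matrix.scalar (Fin 3) c - m) (fun g hg => by
      rw [sub_mul, mul_sub, hm' g hg, (Matrix.scalar_commute c (fun r => Commute.all c r) _).eq]) v hv hv0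
    rw [sub_eq_zero] at this
    rw [← this, Matrix.smul_one_eq_diagonal]
    rfl
  have hdeg : 3 ≤ (minpoly F m).natDegree := by
    by_contra hlt
    have hint : IsIntegral F m := Algebra.IsIntegral.isIntegral m
    have hpos := minpoly.natDegree_pos hint
    obtain ⟨r, hr⟩ := Matrix.minpoly_dvd_charpoly m
    have hcd : m.charpoly.natDegree = 3 := by rw [Matrix.charpoly_natDegree_eq_dim]; rfl
    have hr0 : r ≠ 0 := fun h => by
      rw [h, mul_zero] at hr
      rw [hr] at hcd
      simp at hcd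
    rw [hr, Polynomial.natDegree_mul (minpoly.ne_zero hint) hr0] at hcd
    rcases (show (minpoly F m).natDegree = 1 ∨ r.natDegree = 1 by omega) with h | h
    · obtain ⟨c, hc⟩ := Polynomial.exists_root_of_degree_eq_one (Polynomial.degree_eq_iff_natDegree_eq_of_pos one_pos |>.2 h)
      exact hroot c (hr ▸ Polynomial.root_mul_right_of_isRoot _ hc)
    · obtain ⟨c, hc⟩ := Polynomial.exists_root_of_degree_eq_one (Polynomial.degree_eq_iff_natDegree_eq_of_pos one_pos |>.2 h)
      exact hroot c (hr ▸ Polynomial.root_mul_left_of_isRoot _ hc)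
  -- `m` has a cyclic vector
  set v : Fin 3 → F := Pi.single 0 1
  have hv : v ≠ 0 := fun h => one_ne_zero (Pi.single_eq_zero_iff.1 h)
  let L : (Fin 3 → F) →ₗ[F] (Fin 3 → F) :=
    ∑ k : Fin 3, (LinearMap.proj k).smulRight ((m ^ (k : ℕ)) *ᵥ v)
  let Q : (Fin 3 → F) → Polynomial F := fun c => ∑ k : Fin 3, Polynomial.C (c k) * Polynomial.X ^ (k : ℕ)
  have hL : ∀ c, L c = Polynomial.aeval m (Q c) *ᵥ v := fun c => by
    simp [L, Q, map_sum, Matrix.sum_mulVec, Matrix.smul_mulVec, ← Algebra.smul_def]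
  have hLsurj : Function.Surjective L := by
    refine LinearMap.surjective_of_injective (LinearMap.ker_eq_bot.1 (LinearMap.ker_eq_bot'.2 fun c hc => ?_))
    rw [hL] at hc
    have h0 := hkerInv _ (hpoly _) v hv hc
    have hQ : Q c = 0 := by
      by_contra hne
      have h1 : (Q c).natDegree ≤ 2 := by
        refine Polynomial.natDegree_sum_le_of_forall_le _ _ fun k _ => ?_
        exact le_trans (Polynomial.natDegree_C_mul_X_pow_le _ _) (Nat.le_of_lt_succ k.2)
      have := Polynomial.natDegree_le_of_dvd (minpoly.dvd F m h0) hne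
      omega
    funext k
    have := congrArg (fun r => Polynomial.coeff r (k : ℕ)) hQ
    simpa [Q, Polynomial.finset_sum_coeff, Polynomial.coeff_X_pow, Fin.val_inj] using this
  have hcomm : ∀ a ∈ X, ∀ b ∈ X, a * b = b * a := by
    intro a ha b hb
    obtain ⟨c, hc⟩ := hLsurj ((a : Matrix (Fin 3) (Fin 3) F) *ᵥ v)
    rw [hL] at hc
    -- every vector is `r(m) v`
    have hall : ∀ (g : Matrix (Fin 3) (Fin 3) F) (r : Polynomial F),
        (∀ s : Polynomial F, g * Polynomial.aeval m s = Polynomial.aeval m s * g) →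
        g *ᵥ v = Polynomial.aeval m r *ᵥ v → g = Polynomial.aeval m r := by
      intro g r hg e
      refine Matrix.toLin'.injective (LinearMap.ext fun w => ?_)
      obtain ⟨d, rfl⟩ := hLsurj w
      rw [hL, Matrix.toLin'_apply, Matrix.toLin'_apply, mulVec_mulVec, hg, ← mulVec_mulVec, e, mulVec_mulVec,
        mulVec_mulVec, ← map_mul, ← map_mul, mul_comm]
    have h1 := hall _ (Q c) (fun s => ((hpoly s a ha).symm)) hc.symm
    exact Units.ext (by rw [Units.val_mul, Units.val_mul, h1]; exact hpoly (Q c) b hb)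
  refine hs ?_
  rw [← hperf, Subgroup.commutator_le]
  intro a ha b hb
  rw [commutatorElement_eq_one_iff_mul_comm.2 (hcomm a ha b hb)]
  exact one_mem _

end CfsgLib.Perm.Trans.ThreeBloom
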