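import Cfsg.Agent.Lib.Perm.Trans.ThreeBloom.Descent
import Cfsg.Agent.Lib.Perm.Asch.Forms.U
import Cfsg.Agent.Lib.AutPSL.Field

/-!
# Changing the basis of a model; the standard unitary form
-/

set_option autoImplicit false
set_option linter.all false

namespace CfsgLib.Perm.Trans.ThreeBloom

open scoped Matrix commutatorElement
open Matrix Cfsg.Geo CfsgLib.Perm.Asch

variable {F : Type*} [Field F] [Fintype F] {H : Subgroup (Matrix.ProjectiveSpecialLinearGroup (Fin 3) F)}
  {p α β : ℕ} {K : Type} [Field K] [Fintype K] {ι : K →+* F} {N P : Subgroup (GL (Fin 3) K)}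

theorem conj_mem_scalars_iff (a g : GL (Fin 3) K) :
    a * g * a⁻¹ ∈ scalars (Fin 3) K ↔ g ∈ scalars (Fin 3) K := by
  refine ⟨fun h => ?_, fun h => scalars_normal.conj_mem g h a⟩
  have := scalars_normal.conj_mem _ h a⁻¹
  simpa [mul_assoc] using this

/-- a model in another basis -/
theorem Model.conj (hm : Model H p α K β ι N P) (a : GL (Fin 3) K) :
    Model H p α K β ι (N.map (MulAut.conj a).toMonoidHom) (P.map (MulAut.conj a).toMonoidHom) := by
  have hsc : ∀ g, g ∈ scalars (Fin 3) K → MulAut.conj a g = g := fun g hg => by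
    rw [MulAut.conj_apply, ← scalar_central hg a, mul_inv_cancel_right]
  have hnr : NoRad (P.map (MulAut.conj a).toMonoidHom) ∧ True := ⟨(noRad_of_simple hm.quasi.perfect
    (fun h => hm.quasi.nonabelian (by
      refine ⟨⟨fun x y => ?_⟩⟩
      induction x using QuotientGroup.induction_on with
      | _ x =>
        induction y using QuotientGroup.induction_on with
        | _ y => rw [← QuotientGroup.mk_mul, ← QuotientGroup.mk_mul,
            show x * y = y * x from Subtype.ext (scalar_central (h x.2) y.1)]))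
    hm.quasi.simple).map_equiv (MulAut.conj a) fun g hg => (hsc g hg).symm ▸ hg, trivial⟩
  have hz : scalars (Fin 3) K ≤ N.map (MulAut.conj a).toMonoidHom := fun g hg =>
    ⟨g, hm.scal hg, hsc g hg⟩
  haveI : ((scalars (Fin 3) K).subgroupOf (P.map (MulAut.conj a).toMonoidHom)).Normal :=
    scalars_normal.comap _
  haveI : ((scalars (Fin 3) K).subgroupOf P).Normal := scalars_normal.comap P.subtype
  haveI : ((scalars (Fin 3) K).subgroupOf N).Normal := scalars_normal.comap N.subtype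
  haveI : ((scalars (Fin 3) K).subgroupOf (N.map (MulAut.conj a).toMonoidHom)).Normal :=
    scalars_normal.comap _
  let eX : ∀ X : Subgroup (GL (Fin 3) K), (↥X ⧸ (scalars (Fin 3) K).subgroupOf X) ≃*
      (↥(X.map (MulAut.conj a).toMonoidHom) ⧸ (scalars (Fin 3) K).subgroupOf (X.map (MulAut.conj a).toMonoidHom)) :=
    fun X => by
      haveI : ((scalars (Fin 3) K).subgroupOf X).Normal := scalars_normal.comap X.subtype
      haveI : ((scalars (Fin 3) K).subgroupOf (X.map (MulAut.conj a).toMonoidHom)).Normal := scalars_normal.comap _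
      refine QuotientGroup.congr _ _ ((MulAut.conj a).subgroupMap X) ?_
      ext y
      simp only [Subgroup.mem_map, Subgroup.mem_subgroupOf]
      constructor
      · rintro ⟨x, hx, rfl⟩
        exact (conj_mem_scalars_iff a x.1).2 hx
      · intro hy
        obtain ⟨x, rfl⟩ := ((MulAut.conj a).subgroupMap X).surjective y
        exact ⟨x, (conj_mem_scalars_iff a x.1).1 hy, rfl⟩
  have hperf : ⁅P.map (MulAut.conj a).toMonoidHom, P.map (MulAut.conj a).toMonoidHom⁆ =
      P.map (MulAut.conj a).toMonoidHom := by rw [← Subgroup.map_commutator, hm.quasi.perfect]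
  refine ⟨hm.card, hm.dvd, hm.pos, hm.charP, ⟨?_, hperf, ?_, ?_, ?_⟩, ?_, Subgroup.map_mono hm.le, ?_, hz, ?_, ?_, ?_⟩
  · rintro _ ⟨g, hg, rfl⟩
    exact (MonoidHom.normal_ker _).conj_mem g (hm.quasi.le_sl hg) a
  · haveI := hm.quasi.simple
    haveI := (eX P).symm.toEquiv.nontrivial
    exact (eX P).symm.isSimpleGroup
  · intro hc
    refine hm.quasi.nonabelian ⟨⟨fun x y => (eX P).injective ?_⟩⟩
    rw [map_mul, map_mul]
    exact hc.is_comm.comm _ _
  · refine ⟨fun W hW => ?_, fun M hM => ?_⟩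
    · have hinv : ∀ x ∈ matrixSet P, (W.comap (Matrix.toLin' (a : Matrix (Fin 3) (Fin 3) K))).map (Matrix.toLin' x) ≤
          W.comap (Matrix.toLin' (a : Matrix (Fin 3) (Fin 3) K)) := by
        rintro _ ⟨g, hg, rfl⟩ _ ⟨w, hw, rfl⟩
        rw [SetLike.mem_coe, Submodule.mem_comap, Matrix.toLin'_apply] at hw
        have := hW _ ⟨_, ⟨g, hg, rfl⟩, rfl⟩ ⟨_, hw, rfl⟩
        rw [Submodule.mem_comap, Matrix.toLin'_apply, Matrix.toLin'_apply, mulVec_mulVec]
        simpa [mulVec_mulVec, mul_assoc] using this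
      rcases hm.quasi.absIrred.1 (W.comap (Matrix.toLin' (a : Matrix (Fin 3) (Fin 3) K))) hinv with h | h
      · left
        rw [Submodule.eq_bot_iff] at h ⊢
        intro w hw
        have h1 := h (((a⁻¹ : GL (Fin 3) K) : Matrix (Fin 3) (Fin 3) K) *ᵥ w) (by
          rw [Submodule.mem_comap, Matrix.toLin'_apply, mulVec_mulVec, gl_mul_inv, one_mulVec]; exact hw)
        have := congrArg ((a : Matrix (Fin 3) (Fin 3) K) *ᵥ ·) h1
        simpa [mulVec_mulVec] using this
      · right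
        rw [Submodule.eq_top_iff'] at h ⊢
        intro w
        have := h (((a⁻¹ : GL (Fin 3) K) : Matrix (Fin 3) (Fin 3) K) *ᵥ w)
        rwa [Submodule.mem_comap, Matrix.toLin'_apply, mulVec_mulVec, gl_mul_inv, one_mulVec] at this
    · obtain ⟨c, hc⟩ := hm.quasi.absIrred.2 (cj a⁻¹ M) (by
        rintro _ ⟨g, hg, rfl⟩
        apply cj_injective a
        rw [cj_mul, cj_mul, cj_cj_inv, cj_coe]
        exact hM _ ⟨_, ⟨g, hg, rfl⟩, rfl⟩)
      exact ⟨c, by rw [← cj_cj_inv a M, hc, cj_smul, cj_one]⟩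
  · rintro K₁ hK₁ ⟨B, hB⟩
    refine hm.noSub K₁ hK₁ ⟨B * a, ?_⟩
    rintro _ ⟨g, hg, rfl⟩ i j
    have := hB _ ⟨_, ⟨g, hg, rfl⟩, rfl⟩ i j
    simpa [mul_assoc, Units.val_mul] using this
  · rintro _ ⟨h, hh, rfl⟩ _ ⟨g, hg, rfl⟩
    exact ⟨_, hm.norm h hh g hg, by simp [mul_assoc]⟩
  · rintro _ ⟨h, hh, rfl⟩ hc
    refine (conj_mem_scalars_iff a h).2 (hm.cent h hh fun v hv => ?_)
    have := hc _ ⟨v, hv, rfl⟩
    rw [← conj_mem_scalars_iff a]
    simpa [mul_assoc] using this
  · rintro _ ⟨U, hU, rfl⟩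
    obtain ⟨c, hc⟩ := hm.det U hU
    refine ⟨c, ?_⟩
    show ι ((a * U * a⁻¹ : GL (Fin 3) K) : Matrix (Fin 3) (Fin 3) K).det * c ^ 3 = 1
    have e1 : ((a * U * a⁻¹ : GL (Fin 3) K) : Matrix (Fin 3) (Fin 3) K).det = (U : Matrix (Fin 3) (Fin 3) K).det := by
      rw [Units.val_mul, Units.val_mul]
      exact Matrix.det_units_conj a _
    rwa [e1]
  · obtain ⟨e⟩ := hm.iso
    exact ⟨e.trans (eX N)⟩

/-- a model fixing a unitary form is one inside the standard unitary group -/
theorem Model.exists_unitary (hm : Model H p α K β ι N P) (hp : p.Prime) (hU : ThreeRes.FixesHerm P) :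
    ∃ (N' P' : Subgroup (GL (Fin 3) K)) (γ : ℕ), Model H p α K β ι N' P' ∧ β = 2 * γ ∧
      P' ≤ Cfsg.GU 3 K (p ^ γ) := by
  classical
  haveI : Fact p.Prime := ⟨hp⟩
  obtain ⟨σ, f, hf, hfix⟩ := hU
  let τ : RingAut K := σ
  have hτ : orderOf τ = 2 := by
    refine orderOf_eq_prime (RingEquiv.ext fun x => ?_) hf.ne_refl
    exact hf.involutive x
  obtain ⟨e⟩ := CfsgLib.AutPSL.exists_ringAut_equiv (p := p) hm.card
  haveI : NeZero β := ⟨by have := hm.pos; omega⟩
  haveI : Fintype (RingAut K) := Fintype.ofEquiv _ e.symm.toEquiv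
  haveI : IsCyclic (RingAut K) := isCyclic_of_surjective e.symm.toMonoidHom e.symm.surjective
  obtain ⟨γ, hγ⟩ : 2 ∣ β := by
    have := orderOf_dvd_natCard τ
    rwa [hτ, CfsgLib.AutPSL.card_ringAut (p := p) hm.card] at this
  have hcard : Fintype.card K = (p ^ γ) ^ 2 := by rw [hm.card, hγ, ← pow_mul, mul_comm]
  obtain ⟨σ', hu⟩ := exists_uconj hcard
  obtain ⟨τ', hτ', hτσ⟩ := hu.exists_ringAut
  have hττ : τ' = τ := by
    by_contra hne
    have h1 := IsCyclic.card_pow_eq_one_le (α := RingAut K) two_pos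
    have hsub : ({1, τ, τ'} : Finset (RingAut K)) ⊆ Finset.univ.filter (fun a => a ^ 2 = 1) := by
      intro x hx
      simp only [Finset.mem_insert, Finset.mem_singleton] at hx
      rcases hx with rfl | rfl | rfl
      · simp
      · refine Finset.mem_filter.2 ⟨Finset.mem_univ _, ?_⟩
        rw [← hτ, pow_orderOf_eq_one]
      · refine Finset.mem_filter.2 ⟨Finset.mem_univ _, ?_⟩
        rw [← hτ', pow_orderOf_eq_one]
    have h2 := (Finset.card_le_card hsub).trans h1
    have h3 : τ ≠ 1 := fun h => by simp [h] at hτ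
    have h4 : τ' ≠ 1 := fun h => by simp [h] at hτ'
    rw [Finset.card_insert_of_notMem (by simp [Ne.symm h3, Ne.symm h4]),
      Finset.card_insert_of_notMem (by simpa using Ne.symm hne), Finset.card_singleton] at h2
    omega
  have hσ : ∀ x, σ' x = σ x := fun x => by rw [← hτσ, hττ]
  obtain ⟨G, hG⟩ := exists_gform σ' f hf.add_left hf.smul_left
    (fun v x y => by rw [hf.herm, hf.add_left, map_add, ← hf.herm, ← hf.herm])
    (fun c v x => by rw [hf.herm, hf.smul_left, map_mul, ← hf.herm, hσ])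
  have hd : G.det ≠ 0 := by
    intro h0
    obtain ⟨v, hv, hv0⟩ := Matrix.exists_vecMul_eq_zero_iff.2 h0
    obtain ⟨x, hx⟩ := (hf.nondegenerate v hv).2
    apply hx
    rw [hG]
    show v ⬝ᵥ (G *ᵥ _) = 0
    rw [Matrix.dotProduct_mulVec, hv0, zero_dotProduct]
  have hherm : Gᵀ.map σ' = G := by
    ext i j
    rw [Matrix.map_apply, Matrix.transpose_apply, hσ, ← gform_single σ' G, ← gform_single σ' G, ← hG]
    exact (hf.herm _ _).symm
  obtain ⟨A, hA⟩ := hu.exists_congr_one hd hherm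
  refine ⟨_, _, γ, hm.conj A⁻¹, hγ, ?_⟩
  rintro _ ⟨g, hg, rfl⟩ u v
  have hform : ∀ x y, Cfsg.hermForm 3 K (p ^ γ) x y =
      f ((A : Matrix (Fin 3) (Fin 3) K) *ᵥ x) ((A : Matrix (Fin 3) (Fin 3) K) *ᵥ y) := fun x y => by
    rw [hu.hermForm_eq, hG, gform_mulVec, hA]
  simp only [Units.coeHom_apply, MulEquiv.coe_toMonoidHom, MulAut.conj_apply, inv_inv]
  rw [hform, hform]
  simp only [mulVec_mulVec, ← Units.val_mul]
  rw [show A * (A⁻¹ * g * A) = g * A by group, Units.val_mul, ← mulVec_mulVec, ← mulVec_mulVec]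
  exact hfix _ ⟨g, hg, rfl⟩ _ _

end CfsgLib.Perm.Trans.ThreeBloom
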