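import Cfsg.Agent.Lib.Perm.Trans.ThreeBloom.DetIndex
import Cfsg.Agent.Lib.Perm.Trans.ThreeBloom.UnitaryForm

/-!
# The socles `PSL₃` and `PSU₃` and their normalisers
-/

set_option autoImplicit false
set_option linter.all false

namespace CfsgLib.Perm.Trans.ThreeBloom

open scoped Matrix commutatorElement
open Matrix Cfsg.Geo CfsgLib.Perm.Asch

variable {F : Type*} [Field F] [Fintype F] {H : Subgroup (Matrix.ProjectiveSpecialLinearGroup (Fin 3) F)}
  {p α β : ℕ} {K : Type} [Field K] [Fintype K] {ι : K →+* F} {N P : Subgroup (GL (Fin 3) K)}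

/-- `SL(3)` modulo scalars is `PSL(3)` -/
theorem psl_equiv : Nonempty (↥(specialLinear (Fin 3) K) ⧸ (scalars (Fin 3) K).subgroupOf (specialLinear (Fin 3) K) ≃*
    Matrix.ProjectiveSpecialLinearGroup (Fin 3) K) := by
  haveI : ((scalars (Fin 3) K).subgroupOf (specialLinear (Fin 3) K)).Normal := scalars_normal.comap _
  let g : Matrix.SpecialLinearGroup (Fin 3) K →*
      ↥(specialLinear (Fin 3) K) ⧸ (scalars (Fin 3) K).subgroupOf (specialLinear (Fin 3) K) :=
    (QuotientGroup.mk' _).comp (Matrix.SpecialLinearGroup.toGL.codRestrict _ fun A => Units.ext (by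
      rw [Matrix.GeneralLinearGroup.val_det_apply]; exact A.2))
  have hker : g.ker = Subgroup.center (Matrix.SpecialLinearGroup (Fin 3) K) := by
    ext A
    rw [MonoidHom.mem_ker, ← toGL_mem_scalars]
    exact (QuotientGroup.eq_one_iff _).trans Subgroup.mem_subgroupOf
  have hsurj : Function.Surjective g := by
    intro q
    obtain ⟨⟨U, hU⟩, rfl⟩ := QuotientGroup.mk'_surjective _ q
    have h := congrArg Units.val (show Matrix.GeneralLinearGroup.det U = 1 from hU)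
    rw [Matrix.GeneralLinearGroup.val_det_apply] at h
    exact ⟨⟨U, h⟩, congrArg QuotientGroup.mk (Subtype.ext (Units.ext rfl))⟩
  exact ⟨((QuotientGroup.quotientMulEquivOfEq hker.symm).trans
    (QuotientGroup.quotientKerEquivOfSurjective g hsurj)).symm⟩

/-- the socle is `PSL(3)` -/
theorem case_sl (hm : Model H p α K β ι N P) (hF : Fintype.card F = p ^ α) (hP : P = specialLinear (Fin 3) K) :
    Nonempty (↥H ≃* Matrix.ProjectiveSpecialLinearGroup (Fin 3) K) ∨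
      (3 ∣ p ^ β - 1 ∧ 3 * β ∣ α ∧ ∃ L : Subgroup ↥H, L.index = 3 ∧
        Nonempty (↥L ≃* Matrix.ProjectiveSpecialLinearGroup (Fin 3) K)) := by
  subst hP
  obtain ⟨e⟩ := hm.iso
  obtain ⟨e₀⟩ := psl_equiv (K := K)
  have hcube : ∀ U ∈ N, (∃ c : K, (U : Matrix (Fin 3) (Fin 3) K).det = c ^ 3) → U ∈ specialLinear (Fin 3) K ⊔ scalars (Fin 3) K := by
    intro U hU hc
    obtain ⟨c, hc⟩ := hc
    have hc0 : c ≠ 0 := fun h => by
      rw [h, zero_pow three_ne_zero] at hc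
      exact ((Matrix.isUnit_iff_isUnit_det _).1 U.isUnit).ne_zero hc
    refine Subgroup.mem_sup_of_normal_right.2 ⟨U * sch (Fin 3) K (Units.mk0 c hc0)⁻¹, ?_,
      sch (Fin 3) K (Units.mk0 c hc0), sch_mem _, by rw [map_inv, inv_mul_cancel_right]⟩
    refine Units.ext ?_
    rw [Matrix.GeneralLinearGroup.val_det_apply, Units.val_mul, Matrix.det_mul, sch_coe, Matrix.det_smul,
      Fintype.card_fin, Matrix.det_one, mul_one, hc, Units.val_inv_eq_inv_val, Units.val_mk0, inv_pow,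
      mul_inv_cancel₀ (pow_ne_zero _ hc0), Units.val_one]
  rcases det_index hm.le hm.scal le_rfl hcube e with ⟨⟨e₁⟩⟩ | ⟨U, hU, hno, L, hL, ⟨e₁⟩⟩
  · exact Or.inl ⟨e₁.trans e₀⟩
  · obtain ⟨c, hc⟩ := hm.det U hU
    obtain ⟨h3, hd⟩ := three_dvd_of_cube hF hm.card hm.dvd ι
      (((Matrix.isUnit_iff_isUnit_det _).1 U.isUnit).ne_zero) hno hc
    exact Or.inr ⟨h3, hd, L, hL, ⟨e₁.trans e₀⟩⟩

/-- a cube criterion -/
theorem exists_cube {k : ℕ} (hk : Fintype.card K - 1 = 3 * k) {x : K} (hx0 : x ≠ 0) (hx : x ^ k = 1) :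
    ∃ c : K, x = c ^ 3 := by
  classical
  set u : Kˣ := Units.mk0 x hx0
  have hKu : Nat.card Kˣ = 3 * k := by rw [Nat.card_units, Nat.card_eq_fintype_card, hk]
  have hxk : u ^ k = 1 := Units.ext (by rw [Units.val_pow_eq_pow_val]; simpa [u] using hx)
  obtain ⟨w, hw⟩ := IsCyclic.exists_generator (α := Kˣ)
  obtain ⟨n, hn⟩ := Subgroup.mem_zpowers_iff.1 (hw u)
  have hord : orderOf w = 3 * k := by rw [orderOf_eq_card_of_forall_mem_zpowers hw, hKu]
  have h1 : ((3 * k : ℕ) : ℤ) ∣ n * (k : ℤ) := by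
    rw [← hord, orderOf_dvd_iff_zpow_eq_one, _root_.zpow_mul, hn, zpow_natCast, hxk]
  have hk0 : (k : ℤ) ≠ 0 := by
    intro h
    have h' : k = 0 := by exact_mod_cast h
    rw [h', mul_zero] at hord
    exact (orderOf_pos w).ne' hord
  obtain ⟨m, hm⟩ : (3 : ℤ) ∣ n := by
    push_cast at h1
    exact Int.dvd_of_mul_dvd_mul_right hk0 h1
  refine ⟨((w ^ m : Kˣ) : K), ?_⟩
  rw [← Units.val_pow_eq_pow_val, ← zpow_natCast, ← _root_.zpow_mul]
  show (u : K) = _
  rw [← hn, hm, mul_comm]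
  rfl

/-- the socle is `PSU(3)` -/
theorem case_su (hm : Model H p α K β ι N P) (hF : Fintype.card F = p ^ α) {γ : ℕ} (hβ : β = 2 * γ)
    (hP : P = Cfsg.GU 3 K (p ^ γ) ⊓ specialLinear (Fin 3) K) :
    Nonempty (↥H ≃* Cfsg.PSU 3 K (p ^ γ)) ∨
      (3 ∣ p ^ γ + 1 ∧ 6 * γ ∣ α ∧ ∃ L : Subgroup ↥H, L.index = 3 ∧ Nonempty (↥L ≃* Cfsg.PSU 3 K (p ^ γ))) := by
  classical
  have hcard : Fintype.card K = (p ^ γ) ^ 2 := by rw [hm.card, hβ, ← pow_mul, mul_comm]
  obtain ⟨σ, hu⟩ := exists_uconj hcard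
  have habs : AbsIrr P := hm.quasi.absIrred
  have hinv : InvForm P σ (1 : Matrix (Fin 3) (Fin 3) K) := by
    rw [invForm_iff]
    rintro _ ⟨g, hg, rfl⟩ u v
    rw [← hu.hermForm_eq]
    exact (hP.le hg).1 u v
  have hsim : ∀ U ∈ N, ∃ μ : K, μ ≠ 0 ∧ σ μ = μ ∧
      (U : Matrix (Fin 3) (Fin 3) K)ᵀ * (U : Matrix (Fin 3) (Fin 3) K).map σ = μ • 1 := by
    intro U hU
    obtain ⟨c, hc⟩ := hinv.le_similarity hm.norm habs one_ne_zero hU
    have hmat : (U : Matrix (Fin 3) (Fin 3) K)ᵀ * (U : Matrix (Fin 3) (Fin 3) K).map σ = (c : K) • 1 := by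
      refine gform_ext (σ := σ) fun u v => ?_
      rw [show (U : Matrix (Fin 3) (Fin 3) K)ᵀ * (U : Matrix (Fin 3) (Fin 3) K).map σ =
        (U : Matrix (Fin 3) (Fin 3) K)ᵀ * 1 * (U : Matrix (Fin 3) (Fin 3) K).map σ by rw [mul_one], ← gform_mulVec, hc]
      simp [gform, Matrix.smul_mulVec, dotProduct_smul]
    refine ⟨c, c.ne_zero, ?_, hmat⟩
    have h1 := congrArg (fun M : Matrix (Fin 3) (Fin 3) K => (M.map σ)ᵀ) hmat
    simp only [Matrix.map_mul, Matrix.transpose_mul, Matrix.transpose_map] at h1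
    have hmm : ((U : Matrix (Fin 3) (Fin 3) K).map σ).map σ = (U : Matrix (Fin 3) (Fin 3) K) := by
      ext i j; simp [hu.inv]
    rw [hmm, Matrix.transpose_transpose, hmat] at h1
    have h2 := congrFun (congrFun h1 0) 0
    simpa using h2.symm
  have hdet : ∀ (U : GL (Fin 3) K) (μ : K),
      (U : Matrix (Fin 3) (Fin 3) K)ᵀ * (U : Matrix (Fin 3) (Fin 3) K).map σ = μ • 1 →
      (U : Matrix (Fin 3) (Fin 3) K).det * σ (U : Matrix (Fin 3) (Fin 3) K).det = μ ^ 3 := by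
    intro U μ h
    have := congrArg Matrix.det h
    rwa [Matrix.det_mul, Matrix.det_transpose, Matrix.det_smul, Matrix.det_one, mul_one, Fintype.card_fin,
      ← RingHom.mapMatrix_apply, ← RingHom.map_det] at this
  obtain ⟨e⟩ := hm.iso
  have he₀ : Nonempty (↥P ⧸ (scalars (Fin 3) K).subgroupOf P ≃* Cfsg.PSU 3 K (p ^ γ)) := by
    haveI : ((scalars (Fin 3) K).subgroupOf P).Normal := scalars_normal.comap _
    let g : ↥(Cfsg.SU 3 K (p ^ γ)) →* ↥P ⧸ (scalars (Fin 3) K).subgroupOf P :=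
      (QuotientGroup.mk' _).comp ((Matrix.SpecialLinearGroup.toGL.comp (Cfsg.SU 3 K (p ^ γ)).subtype).codRestrict P
        fun A => hP.ge ⟨A.2, Units.ext (by rw [Matrix.GeneralLinearGroup.val_det_apply]; exact A.1.2)⟩)
    have hsurj : Function.Surjective g := by
      intro q
      obtain ⟨⟨U, hU⟩, rfl⟩ := QuotientGroup.mk'_surjective _ q
      have h := congrArg Units.val (show Matrix.GeneralLinearGroup.det U = 1 from (hP.le hU).2)
      rw [Matrix.GeneralLinearGroup.val_det_apply] at h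
      exact ⟨⟨⟨U, h⟩, (hP.le hU).1⟩, congrArg QuotientGroup.mk (Subtype.ext (Units.ext rfl))⟩
    have hker : g.ker = Subgroup.center (Cfsg.SU 3 K (p ^ γ)) := by
      ext A
      rw [MonoidHom.mem_ker, Subgroup.mem_center_iff]
      refine ((QuotientGroup.eq_one_iff _).trans Subgroup.mem_subgroupOf).trans ⟨fun h B => ?_, fun h => ?_⟩
      · have h1 := scalar_central h (Matrix.SpecialLinearGroup.toGL B.1)
        refine Subtype.ext (Subtype.ext ?_)
        exact (congrArg (fun X : GL (Fin 3) K => (X : Matrix (Fin 3) (Fin 3) K)) h1).symm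
      · refine habs.mem_scalars_of_commute fun x hx => ?_
        have hd := congrArg Units.val (show Matrix.GeneralLinearGroup.det x = 1 from (hP.le hx).2)
        rw [Matrix.GeneralLinearGroup.val_det_apply] at hd
        have h1 := h ⟨⟨x, hd⟩, (hP.le hx).1⟩
        exact Units.ext (congrArg (fun X : ↥(Cfsg.SU 3 K (p ^ γ)) => X.1.1) h1).symm
    exact ⟨((QuotientGroup.quotientMulEquivOfEq hker.symm).trans
      (QuotientGroup.quotientKerEquivOfSurjective g hsurj)).symm⟩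
  obtain ⟨e₀⟩ := he₀
  have hcube : ∀ U ∈ N, (∃ c : K, (U : Matrix (Fin 3) (Fin 3) K).det = c ^ 3) → U ∈ P ⊔ scalars (Fin 3) K := by
    intro U hU hc
    obtain ⟨μ, hμ0, hμσ, hμ⟩ := hsim U hU
    obtain ⟨c, hc⟩ := hc
    have hc0 : c ≠ 0 := fun h => by
      rw [h, zero_pow three_ne_zero] at hc
      exact ((Matrix.isUnit_iff_isUnit_det _).1 U.isUnit).ne_zero hc
    have hσc0 : σ c ≠ 0 := fun h => hc0 (σ.injective (h.trans (map_zero σ).symm))
    obtain ⟨m, hm'⟩ : ∃ m, m = μ / (c * σ c) := ⟨_, rfl⟩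
    have hm0 : m ≠ 0 := hm' ▸ div_ne_zero hμ0 (mul_ne_zero hc0 hσc0)
    have hm3 : m ^ 3 = 1 := by
      have h := hdet U μ hμ
      rw [hc, map_pow, ← mul_pow] at h
      rw [hm', div_pow, ← h, div_self (pow_ne_zero _ (mul_ne_zero hc0 hσc0))]
    have hmσ : σ m = m := by
      rw [hm', map_div₀, map_mul, hu.inv, hμσ, mul_comm (σ c)]
    refine Subgroup.mem_sup_of_normal_right.2 ⟨U * sch (Fin 3) K (Units.mk0 (m / c) (div_ne_zero hm0 hc0)), ?_,
      (sch (Fin 3) K (Units.mk0 (m / c) (div_ne_zero hm0 hc0)))⁻¹, inv_mem (sch_mem _),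
      by rw [mul_inv_cancel_right]⟩
    rw [hP]
    refine ⟨fun u v => ?_, Units.ext ?_⟩
    · simp only [Units.coeHom_apply, Units.val_mul, sch_coe, Units.val_mk0, mul_smul_comm, mul_one]
      rw [hu.hermForm_eq, gform_mulVec, Matrix.transpose_smul, mul_one, Matrix.map_smul' _ _ _ (map_mul σ),
        smul_mul_smul_comm, hμ, smul_smul, map_div₀, hmσ]
      have : m / c * (m / σ c) * μ = 1 := by
        rw [div_mul_div_comm, div_mul_eq_mul_div, div_eq_one_iff_eq (mul_ne_zero hc0 hσc0)]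
        have hμ' : μ = m * (c * σ c) := by rw [hm', div_mul_cancel₀ _ (mul_ne_zero hc0 hσc0)]
        linear_combination (m * m) * hμ' + (c * σ c) * hm3
      rw [this, one_smul]
    · rw [Matrix.GeneralLinearGroup.val_det_apply, Units.val_mul, Matrix.det_mul, sch_coe, Matrix.det_smul,
        Fintype.card_fin, Matrix.det_one, mul_one, hc, Units.val_mk0, div_pow, hm3, mul_one_div,
        div_self (pow_ne_zero _ hc0), Units.val_one]
  rcases det_index hm.le hm.scal hm.quasi.le_sl hcube e with ⟨⟨e₁⟩⟩ | ⟨U, hU, hno, L, hL, ⟨e₁⟩⟩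
  · exact Or.inl ⟨e₁.trans e₀⟩
  · obtain ⟨c, hc⟩ := hm.det U hU
    have hd0 := ((Matrix.isUnit_iff_isUnit_det _).1 U.isUnit).ne_zero
    obtain ⟨h3, hd⟩ := three_dvd_of_cube hF hm.card hm.dvd ι hd0 hno hc
    obtain ⟨μ, hμ0, hμσ, hμ⟩ := hsim U hU
    have hq : 1 ≤ p ^ γ := by
      rcases Nat.eq_zero_or_pos (p ^ γ) with h | h
      · have h1 := Fintype.one_lt_card (α := K)
        rw [hcard, h] at h1
        simp at h1
      · exact h
    rw [show p ^ β = (p ^ γ) ^ 2 by rw [hβ, ← pow_mul, mul_comm]] at h3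
    refine Or.inr ⟨?_, by rw [hβ] at hd; rwa [← mul_assoc] at hd, L, hL, ⟨e₁.trans e₀⟩⟩
    by_contra h31
    apply hno
    have h3m : 3 ∣ p ^ γ - 1 := by
      obtain ⟨r, hr⟩ : ∃ r, p ^ γ = r + 1 := ⟨p ^ γ - 1, by omega⟩
      rw [hr] at h3 h31 ⊢
      rw [show (r + 1) ^ 2 - 1 = r * (r + 2) by
        rw [show (r + 1) ^ 2 = r * (r + 2) + 1 by ring]; omega] at h3
      rcases (Nat.Prime.dvd_mul Nat.prime_three).1 h3 with h | h
      · simpa using h
      · exact absurd h h31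
    obtain ⟨t, ht⟩ := h3m
    refine exists_cube (k := (p ^ γ + 1) * t) ?_ hd0 ?_
    · rw [hcard]
      obtain ⟨r, hr⟩ : ∃ r, p ^ γ = r + 1 := ⟨p ^ γ - 1, by omega⟩
      have hr' : r = 3 * t := by omega
      rw [hr, show (r + 1) ^ 2 = r * (r + 2) + 1 by ring, Nat.add_sub_cancel, hr']
      ring
    · rw [pow_mul, pow_succ, ← hu.eq, mul_comm (σ _), hdet U μ hμ, ← pow_mul, ← ht]
      have h1 : μ ^ (p ^ γ) = μ := by rw [← hu.eq, hμσ]
      refine mul_right_cancel₀ hμ0 ?_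
      rw [← pow_succ, show p ^ γ - 1 + 1 = p ^ γ by omega, h1, one_mul]

end CfsgLib.Perm.Trans.ThreeBloom
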