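import Cfsg.Agent.Lib.Perm.Trans.ThreeBloom.UnitaryForm
import Cfsg.Agent.Lib.Perm.Trans.ThreeBloom.AdjointTwo
import Cfsg.Agent.Lib.Perm.Asch.Forms.OCongr
import Cfsg.Agent.Lib.Perm.Asch.Perfect
import Cfsg.Agent.Lib.Perm.Dickson.Minimal
import Cfsg.Agent.Lib.Perm.Dickson.Bridge
import Cfsg.Agent.S0253

/-!
# The orthogonal case

A group whose socle fixes a quadratic form is a subgroup of `PGL(2, K)`, and Dickson's list applies.
-/

set_option autoImplicit false
set_option linter.all false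

namespace CfsgLib.Perm.Trans.ThreeBloom

open scoped Matrix commutatorElement
open Matrix Cfsg.Geo CfsgLib.Perm.Asch CfsgLib.Perm.Dickson

variable {F : Type*} [Field F] [Fintype F] {H : Subgroup (Matrix.ProjectiveSpecialLinearGroup (Fin 3) F)}
  {p α β : ℕ} {K : Type} [Field K] [Fintype K] {ι : K →+* F} {N P : Subgroup (GL (Fin 3) K)}

/-- a model with a fixed quadratic form is one fixing the standard form -/
theorem Model.exists_orthogonal (hm : Model H p α K β ι N P) (h2 : (2 : K) ≠ 0) (hQ : ThreeRes.FixesQuad P) :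
    ∃ N' P' : Subgroup (GL (Fin 3) K), Model H p α K β ι N' P' ∧
      InvForm P' (RingHom.id K) (AdjointTwo.gram : Matrix (Fin 3) (Fin 3) K) := by
  obtain ⟨Q, hQn, hfix⟩ := hQ
  obtain ⟨G, hG⟩ := exists_gform (RingHom.id K) (QuadraticMap.polar Q) hQn.polar_bilinear.add_left
    hQn.polar_bilinear.smul_left hQn.polar_bilinear.add_right hQn.polar_bilinear.smul_right
  have hinv : InvForm P (RingHom.id K) G := invForm_iff.2 (hG ▸ FixesQuadForm.polar hfix)
  have hnd : IsNondegenerateForm (gform (RingHom.id K) G) := hG ▸ hQn.nondegenerate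
  have hd : G.det ≠ 0 := by
    intro h0
    obtain ⟨v, hv, hv0⟩ := Matrix.exists_vecMul_eq_zero_iff.2 h0
    obtain ⟨x, hx⟩ := (hnd v hv).2
    apply hx
    show v ⬝ᵥ (G *ᵥ _) = 0
    rw [Matrix.dotProduct_mulVec, hv0, zero_dotProduct]
  have hsym : Gᵀ = G := by
    refine Matrix.ext fun i j => ?_
    rw [Matrix.transpose_apply, ← gform_single (RingHom.id K) G, ← gform_single (RingHom.id K) G, ← hG]
    exact QuadraticMap.polar_comm Q _ _
  obtain ⟨c, hc⟩ : ∃ c, c = G.det * -2 := ⟨_, rfl⟩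
  have hc0 : c ≠ 0 := hc ▸ mul_ne_zero hd (neg_ne_zero.2 h2)
  have hgd : (AdjointTwo.gram : Matrix (Fin 3) (Fin 3) K).det = -2 := by
    simp [AdjointTwo.gram, Matrix.det_fin_three]
  obtain ⟨A, hA⟩ := exists_congr_symm (A := c • G) (B := (AdjointTwo.gram : Matrix (Fin 3) (Fin 3) K)) h2
    (by rw [Matrix.transpose_smul, hsym])
    (Matrix.ext fun i j => by fin_cases i <;> fin_cases j <;> simp [AdjointTwo.gram])
    (by rw [Matrix.det_smul]; exact mul_ne_zero (pow_ne_zero _ hc0) hd)
    (by rw [hgd]; exact neg_ne_zero.2 h2)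
    ⟨c * c, by rw [Matrix.det_smul, Fintype.card_fin, hgd, hc]; ring⟩
  refine ⟨_, _, hm.conj A⁻¹, ?_⟩
  rintro _ ⟨g, hg, rfl⟩
  have hg' := hinv g hg
  simp only [RingHom.coe_id, Matrix.map_id] at hg'
  simp only [RingHom.coe_id, Matrix.map_id, MulEquiv.coe_toMonoidHom, MulAut.conj_apply, inv_inv, Units.val_mul]
  set A' := (A : Matrix (Fin 3) (Fin 3) K)
  set Ai := ((A⁻¹ : GL (Fin 3) K) : Matrix (Fin 3) (Fin 3) K)
  have hi : A' * Ai = 1 := Units.mul_inv A
  set g' := (g : Matrix (Fin 3) (Fin 3) K)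
  calc (Ai * g' * A')ᵀ * AdjointTwo.gram * (Ai * g' * A')
      = A'ᵀ * g'ᵀ * (A' * Ai)ᵀ * (c • G) * (A' * Ai) * g' * A' := by
        rw [← hA]
        simp only [Matrix.transpose_mul, mul_assoc]
    _ = A'ᵀ * (c • (g'ᵀ * G * g')) * A' := by
        rw [hi]; simp only [Matrix.transpose_one, mul_one, Matrix.mul_smul, Matrix.smul_mul, mul_assoc]
    _ = AdjointTwo.gram := by rw [hg', ← hA]

/-- a model fixing the standard form is a subgroup of `PGL(2)` -/
theorem Model.exists_pgl (hm : Model H p α K β ι N P) (h2 : (2 : K) ≠ 0)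
    (hI : InvForm P (RingHom.id K) (AdjointTwo.gram : Matrix (Fin 3) (Fin 3) K)) :
    ∃ H' : Subgroup (G2 K), Nonempty (↥H ≃* ↥H') := by
  classical
  obtain ⟨e⟩ := hm.iso
  haveI : ((scalars (Fin 3) K).subgroupOf N).Normal := scalars_normal.comap N.subtype
  set G := (AdjointTwo.gram : Matrix (Fin 3) (Fin 3) K) with hGdef
  have hG0 : G ≠ 0 := fun h => h2 (by simpa [hGdef, AdjointTwo.gram] using congrFun (congrFun h 0) 0)
  have hgd : G.det ≠ 0 := by
    simp [hGdef, AdjointTwo.gram, Matrix.det_fin_three, h2]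
  set R : Subgroup (GL (Fin 2) K) := N.comap AdjointTwo.adj with hR
  let ψ : ↥R →* ↥N ⧸ (scalars (Fin 3) K).subgroupOf N :=
    (QuotientGroup.mk' _).comp ((AdjointTwo.adj.comp R.subtype).codRestrict N fun A => A.2)
  have hsurj : Function.Surjective ψ := by
    intro x
    obtain ⟨⟨U, hU⟩, rfl⟩ := QuotientGroup.mk'_surjective _ x
    obtain ⟨lam, hlam⟩ := hI.le_similarity hm.norm hm.quasi.absIrred hG0 hU
    have hmat : (U : Matrix (Fin 3) (Fin 3) K)ᵀ * G * (U : Matrix (Fin 3) (Fin 3) K) = (lam : K) • G := by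
      refine gform_ext (σ := RingHom.id K) fun u v => ?_
      have h := hlam u v
      rw [gform_mulVec] at h
      simp only [RingHom.coe_id, Matrix.map_id] at h
      rw [h]
      simp [gform, Matrix.smul_mulVec, dotProduct_smul]
    have hd := congrArg Matrix.det hmat
    rw [Matrix.det_mul, Matrix.det_mul, Matrix.det_transpose, Matrix.det_smul, Fintype.card_fin] at hd
    have hdd : (U : Matrix (Fin 3) (Fin 3) K).det ^ 2 = (lam : K) ^ 3 :=
      mul_right_cancel₀ hgd (by linear_combination hd)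
    set d := (U : Matrix (Fin 3) (Fin 3) K).det with hddef
    have hd0 : d ≠ 0 := ((Matrix.isUnit_iff_isUnit_det _).1 U.isUnit).ne_zero
    have hl0 : (lam : K) ≠ 0 := lam.ne_zero
    set c := Units.mk0 ((lam : K) / d) (div_ne_zero hl0 hd0) with hc
    set V := U * sch (Fin 3) K c with hV
    have hVN : V ∈ N := N.mul_mem hU (hm.scal (sch_mem _))
    have hVval : (V : Matrix (Fin 3) (Fin 3) K) = ((lam : K) / d) • (U : Matrix (Fin 3) (Fin 3) K) := by
      rw [hV, Units.val_mul, sch_coe, hc, Units.val_mk0, mul_smul_comm, mul_one]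
    obtain ⟨A, hA⟩ := AdjointTwo.exists_adj h2 V (by
        rw [hVval, Matrix.transpose_smul, Matrix.smul_mul, Matrix.smul_mul, Matrix.mul_smul, smul_smul, hmat,
          smul_smul, show (lam : K) / d * ((lam : K) / d) * (lam : K) = 1 by
            field_simp; linear_combination -hdd, one_smul])
      (by
        rw [hVval, Matrix.det_smul, Fintype.card_fin, ← hddef, div_pow]
        field_simp
        linear_combination -hdd)
    refine ⟨⟨A, show AdjointTwo.adj A ∈ N by rw [hA]; exact hVN⟩, QuotientGroup.eq.2 ?_⟩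
    rw [Subgroup.mem_subgroupOf]
    show (AdjointTwo.adj A)⁻¹ * U ∈ scalars (Fin 3) K
    rw [hA, hV, _root_.mul_inv_rev, mul_assoc, inv_mul_cancel, mul_one]
    exact inv_mem (sch_mem _)
  have hker : ψ.ker = (ProjGenLinGroup.mk.comp R.subtype).ker := by
    ext A
    rw [MonoidHom.mem_ker, MonoidHom.mem_ker]
    refine ((QuotientGroup.eq_one_iff _).trans Subgroup.mem_subgroupOf).trans ?_
    show AdjointTwo.adj (A : GL (Fin 2) K) ∈ scalars (Fin 3) K ↔ ProjGenLinGroup.mk (A : GL (Fin 2) K) = 1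
    rw [ProjGenLinGroup.mk_eq_one, ← AdjointTwo.adj_eq_one_iff]
    refine ⟨fun h => ?_, fun h => h ▸ one_mem _⟩
    obtain ⟨c, hc⟩ := mem_scalars.1 h
    have h3 : (c : K) ^ 3 = 1 := by
      have := AdjointTwo.adj_det (A : GL (Fin 2) K)
      rw [hc, Matrix.det_smul, Matrix.det_one, mul_one, Fintype.card_fin] at this
      exact this
    have h2' : (c : K) ^ 2 = 1 := by
      have := AdjointTwo.adj_form (A : GL (Fin 2) K)
      rw [hc, ← hGdef, Matrix.transpose_smul, Matrix.transpose_one, Matrix.smul_mul, Matrix.smul_mul, one_mul,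
        Matrix.mul_smul, mul_one, smul_smul, ← pow_two] at this
      have h00 := congrFun (congrFun this 0) 0
      rw [Matrix.smul_apply, smul_eq_mul] at h00
      exact (mul_eq_right₀ (by simp [hGdef, AdjointTwo.gram, h2])).1 h00
    refine Units.ext ?_
    rw [hc, show (c : K) = 1 by linear_combination h3 - (c : K) * h2', one_smul]
    rfl
  refine ⟨(ProjGenLinGroup.mk.comp R.subtype).range, ⟨e.trans ?_⟩⟩
  exact (QuotientGroup.quotientKerEquivOfSurjective ψ hsurj).symm.trans
    ((QuotientGroup.quotientMulEquivOfEq hker).trans (QuotientGroup.quotientKerEquivRange _))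

/-- the group is not solvable -/
theorem Model.not_solvable (hm : Model H p α K β ι N P) : ¬ Group.IsSolvable ↥H := by
  intro hs
  obtain ⟨e⟩ := hm.iso
  haveI : ((scalars (Fin 3) K).subgroupOf N).Normal := scalars_normal.comap N.subtype
  haveI : ((scalars (Fin 3) K).subgroupOf P).Normal := scalars_normal.comap P.subtype
  haveI := hs
  haveI : Group.IsSolvable (↥N ⧸ (scalars (Fin 3) K).subgroupOf N) :=
    Group.isSolvable_of_surjective (f := e.toMonoidHom) e.surjective
  haveI : Group.IsSolvable ((scalars (Fin 3) K).subgroupOf N) := isSolvable_of_comm fun a b =>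
    Subtype.ext (Subtype.ext (scalar_central a.2 b.1.1))
  haveI : Group.IsSolvable ↥N := Group.isSolvable_of_ker_le_range ((scalars (Fin 3) K).subgroupOf N).subtype
    (QuotientGroup.mk' ((scalars (Fin 3) K).subgroupOf N)) (by rw [QuotientGroup.ker_mk', Subgroup.range_subtype])
  have hP : Group.IsSolvable ↥P :=
    Group.isSolvable_of_isSolvable_injective (Subgroup.inclusion_injective hm.le)
  refine hm.quasi.nonabelian ⟨⟨fun a b => ?_⟩⟩
  obtain ⟨a, rfl⟩ := QuotientGroup.mk'_surjective _ a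
  obtain ⟨b, rfl⟩ := QuotientGroup.mk'_surjective _ b
  have h1 := eq_bot_of_perfect_solvable hm.quasi.perfect hP
  have ha : a = 1 := Subtype.ext (Subgroup.mem_bot.1 (h1 ▸ a.2))
  rw [ha, map_one, one_mul, mul_one]

theorem mod_ten_of_five_dvd {Q k : ℕ} (hodd : Odd Q) (h5Q : ¬ 5 ∣ Q) (h : 5 ∣ Q * (Q - 1) * (Q + 1)) :
    Q ^ k % 10 = 1 ∨ Q ^ k % 10 = 9 := by
  have hQ : Q % 10 = 1 ∨ Q % 10 = 9 := by
    have h5 : Nat.Prime 5 := Nat.prime_five
    rcases (h5.dvd_mul).1 h with h' | h'
    · rcases (h5.dvd_mul).1 h' with h' | h'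
      · exact absurd h' h5Q
      · obtain ⟨j, hj⟩ := hodd; omega
    · obtain ⟨j, hj⟩ := hodd; omega
  rcases hQ with hQ | hQ
  · exact Or.inl (by rw [Nat.pow_mod, hQ, one_pow]; norm_num)
  · rcases Nat.even_or_odd' k with ⟨j, rfl | rfl⟩
    · exact Or.inl (by rw [Nat.pow_mod, hQ, pow_mul, Nat.pow_mod]; norm_num)
    · exact Or.inr (by rw [Nat.pow_mod, hQ, pow_succ, pow_mul, Nat.mul_mod, Nat.pow_mod]; norm_num)

/-- the socle fixes a quadratic form -/
theorem case_quad (hm : Model H p α K β ι N P) (hp : p.Prime) (hp2 : p ≠ 2) (hF : Fintype.card F = p ^ α)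
    (hQ : ThreeRes.FixesQuad P) :
    (∃ (L : Type) (_ : Field L) (_ : Fintype L) (γ : ℕ), Fintype.card L = p ^ γ ∧ γ ∣ α ∧ p ^ γ ≠ 3 ∧
      (Nonempty (↥H ≃* Matrix.ProjectiveSpecialLinearGroup (Fin 2) L) ∨
        Nonempty (↥H ≃* (GL (Fin 2) L ⧸ Subgroup.center (GL (Fin 2) L))))) ∨
    ((p ^ α % 10 = 1 ∨ p ^ α % 10 = 9) ∧ ∃ (L : Type) (_ : Field L) (_ : Fintype L), Fintype.card L = 5 ∧
      Nonempty (↥H ≃* Matrix.ProjectiveSpecialLinearGroup (Fin 2) L)) := by
  classical
  haveI : Fact p.Prime := ⟨hp⟩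
  haveI := hm.charP
  have h2 : (2 : K) ≠ 0 := Ring.two_ne_zero (by rw [ringChar.eq K p]; exact hp2)
  obtain ⟨N', P', hm', hI⟩ := hm.exists_orthogonal h2 hQ
  obtain ⟨H', ⟨e⟩⟩ := hm'.exists_pgl h2 hI
  haveI := finite_G2 (F := K)
  have hns : ¬ Group.IsSolvable ↥H' := fun hs => hm.not_solvable (by
    haveI := hs
    exact Group.isSolvable_of_surjective (f := e.symm.toMonoidHom) e.symm.surjective)
  cases classify_finite p H' with
  | borel x hx => exact absurd (solvable_of_fixed hx) hns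
  | cyclic a b hg hle hne => exact absurd (solvable_of_pairSet hg.1 (fun g hg' =>
      mem_pairSet.2 (Or.inl (mem_pairFix.1 (hle hg'))))) hns
  | dihedral a b hg hle hn hC => exact absurd (solvable_of_pairSet hg.1 hle) hns
  | a4 hN h2' h3 h => exact absurd (solvable_of_card_dvd_24 (by rw [hN]; norm_num)) hns
  | s4 hN h2' h3 h => exact absurd (solvable_of_card_dvd_24 (by rw [hN])) hns
  | a5 hN h2' h5 h =>
    haveI : Fact (Nat.Prime 5) := ⟨Nat.prime_five⟩
    obtain ⟨e'⟩ := Cfsg.Agent.S0253.result (F := ZMod 5) (ZMod.card 5)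
    refine Or.inr ⟨?_, ZMod 5, inferInstance, inferInstance, ZMod.card 5, ⟨e.trans (h.some.trans e'.symm)⟩⟩
    have hd : 5 ∣ Nat.card (G2 K) := (show 5 ∣ 60 by norm_num).trans (hN ▸ Subgroup.card_subgroup_dvd_card H')
    rw [card_G2, Nat.card_eq_fintype_card, hm.card] at hd
    obtain ⟨k, hk⟩ := hm.dvd
    rw [hk, pow_mul]
    refine mod_ten_of_five_dvd ((hp.odd_of_ne_two hp2).pow) (fun h' => h5 ?_) hd
    exact ((Nat.prime_dvd_prime_iff_eq Nat.prime_five hp).1 (Nat.prime_five.dvd_of_dvd_pow h')).symm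
  | subfield σ F1 h3 h =>
    obtain ⟨m, hm1, hcm⟩ := exists_card_pow F1
    haveI : CharP F1 p := (RingHom.charP_iff_charP F1.subtype p).2 inferInstance
    obtain ⟨a, ha, hcard⟩ := card_eq_pow (F := F1) p
    haveI : Fintype (GaloisField p a) := Fintype.ofFinite _
    haveI : Fintype F1 := Fintype.ofFinite _
    have hG : Nat.card (GaloisField p a) = p ^ a := GaloisField.card p a (by omega)
    let i : F1 ≃+* GaloisField p a := FiniteField.ringEquivOfCardEq (by
      rw [← Nat.card_eq_fintype_card, ← Nat.card_eq_fintype_card, hG, hcard])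
    have haα : a ∣ α := by
      rw [hcard, Nat.card_eq_fintype_card, hm.card, ← pow_mul] at hcm
      exact (Dvd.intro m (Nat.pow_right_injective hp.two_le hcm)).trans hm.dvd
    refine Or.inl ⟨GaloisField p a, inferInstance, inferInstance, a,
      by rw [← Nat.card_eq_fintype_card, hG], haα, fun h3' => hns ?_, ?_⟩
    · have hF13 : Nat.card F1 = 3 := hcard.trans h3'
      haveI : Finite ↥(conjG σ H') := Subtype.finite
      haveI : Group.IsSolvable ↥(conjG σ H') := solvable_of_card_dvd_24 (by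
        have hc := card_pglSub F1
        rw [hF13] at hc
        rcases h with h | ⟨-, h⟩
        · rw [h]
          exact dvd_of_eq hc
        · rw [h]
          refine (Dvd.intro_left _ (card_pslSub F1)).trans (dvd_of_eq hc))
      exact Group.isSolvable_of_surjective (f := (conjEquiv σ H').symm.toMonoidHom) (conjEquiv σ H').symm.surjective
    · rcases h with h | ⟨-, h⟩
      · exact Or.inr ⟨(e.trans (conjEquiv σ _)).trans ((MulEquiv.subgroupCongr h).trans (pglSubEquiv F1 i))⟩
      · exact Or.inl ⟨(e.trans (conjEquiv σ _)).trans ((MulEquiv.subgroupCongr h).trans (pslSubEquiv F1 i))⟩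

end CfsgLib.Perm.Trans.ThreeBloom
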