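import Cfsg.Agent.Lib.Perm.Trans.ThreeBloom.LieCase
import Cfsg.Agent.Lib.Perm.Trans.ThreeBloom.Orth
import Cfsg.Agent.Lib.Perm.Trans.ThreeBloom.Dihedral
import Cfsg.Agent.Lib.Perm.Trans.ThreeRes.Tv.Main

/-!
# Bloom's list, given that a socle without transvections has dihedral Sylow two-subgroups
-/

set_option autoImplicit false
set_option linter.all false

namespace CfsgLib.Perm.Trans.ThreeBloom

open scoped Matrix
open Matrix Cfsg.Geo CfsgLib.Perm.Asch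

universe u

theorem bloom_of
    (hD : ∀ (p : ℕ) (K : Type) (_ : Field K) (_ : Fintype K), p.Prime → p ≠ 2 → CharP K p →
      ∀ P : Subgroup (GL (Fin 3) K), ThreeRes.Quasi P → ThreeDim.NoTv P → ThreeRes.HasDihedralTwo P)
    {F : Type u} [Field F] [Fintype F] (p α : ℕ) [Fact p.Prime] (hp : p ≠ 2) (hα : 1 ≤ α)
    (hF : Fintype.card F = p ^ α)
    (H : Subgroup (Matrix.ProjectiveSpecialLinearGroup (Fin 3) F)) (hH : H ≠ ⊥)
    (hN : ∀ N : Subgroup ↥H, N.Normal → IsMulCommutative ↥N → (∃ r : ℕ, r.Prime ∧ ∀ x ∈ N, x ^ r = 1) → N = ⊥) :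
    (∃ (K : Type) (_ : Field K) (_ : Fintype K) (β : ℕ), Fintype.card K = p ^ β ∧ β ∣ α ∧ Nonempty (↥H ≃* Matrix.ProjectiveSpecialLinearGroup (Fin 3) K)) ∨
    (∃ (K : Type) (_ : Field K) (_ : Fintype K) (β : ℕ), Fintype.card K = p ^ (2 * β) ∧ 2 * β ∣ α ∧ Nonempty (↥H ≃* Cfsg.PSU 3 K (p ^ β))) ∨
    (∃ (K : Type) (_ : Field K) (_ : Fintype K) (β : ℕ), Fintype.card K = p ^ β ∧ 3 ∣ p ^ β - 1 ∧ 3 * β ∣ α ∧ ∃ L : Subgroup ↥H, L.index = 3 ∧ Nonempty (↥L ≃* Matrix.ProjectiveSpecialLinearGroup (Fin 3) K)) ∨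
    (∃ (K : Type) (_ : Field K) (_ : Fintype K) (β : ℕ), Fintype.card K = p ^ (2 * β) ∧ 3 ∣ p ^ β + 1 ∧ 6 * β ∣ α ∧ ∃ L : Subgroup ↥H, L.index = 3 ∧ Nonempty (↥L ≃* Cfsg.PSU 3 K (p ^ β))) ∨
    (∃ (K : Type) (_ : Field K) (_ : Fintype K) (β : ℕ), Fintype.card K = p ^ β ∧ β ∣ α ∧ p ^ β ≠ 3 ∧ (Nonempty (↥H ≃* Matrix.ProjectiveSpecialLinearGroup (Fin 2) K) ∨ Nonempty (↥H ≃* (GL (Fin 2) K ⧸ Subgroup.center (GL (Fin 2) K))))) ∨
    ((p ^ α % 10 = 1 ∨ p ^ α % 10 = 9) ∧ ∃ (K : Type) (_ : Field K) (_ : Fintype K), Fintype.card K = 5 ∧ Nonempty (↥H ≃* Matrix.ProjectiveSpecialLinearGroup (Fin 2) K)) ∨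
    ((p ^ α) ^ 3 % 7 = 1 ∧ ∃ (K : Type) (_ : Field K) (_ : Fintype K), Fintype.card K = 7 ∧ Nonempty (↥H ≃* Matrix.ProjectiveSpecialLinearGroup (Fin 2) K)) ∨
    (p = 5 ∧ Even α ∧ (Nonempty (↥H ≃* ↥(alternatingGroup (Fin 6))) ∨ Nonempty (↥H ≃* ↥(alternatingGroup (Fin 7))) ∨
      ∃ L : Subgroup ↥H, L.index = 2 ∧ Nonempty (↥L ≃* ↥(alternatingGroup (Fin 6))))) ∨
    ((p ^ α % 30 = 1 ∨ p ^ α % 30 = 19) ∧ Nonempty (↥H ≃* ↥(alternatingGroup (Fin 6)))) := by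
  have hp' : p.Prime := Fact.out
  obtain ⟨K, i1, i2, β, ι, N, P, hm⟩ := exists_model p α hp hα hF H hH hN
  haveI := hm.charP
  by_cases hQ : ThreeRes.FixesQuad P
  · rcases case_quad hm hp' hp hF hQ with h | h
    · exact Or.inr (Or.inr (Or.inr (Or.inr (Or.inl h))))
    · exact Or.inr (Or.inr (Or.inr (Or.inr (Or.inr (Or.inl h)))))
  by_cases hU : ThreeRes.FixesHerm P
  · obtain ⟨N', P', γ, hm', hβ, hle⟩ := hm.exists_unitary hp' hU
    by_cases hQ' : ThreeRes.FixesQuad P'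
    · rcases case_quad hm' hp' hp hF hQ' with h | h
      · exact Or.inr (Or.inr (Or.inr (Or.inr (Or.inl h))))
      · exact Or.inr (Or.inr (Or.inr (Or.inr (Or.inr (Or.inl h)))))
    by_cases hnt : ThreeDim.NoTv P'
    · exact Or.inr (Or.inr (Or.inr (Or.inr (Or.inr (Or.inr (case_dihedral hm' hp' hp hQ' (hD p K i1 i2 hp' hp hm.charP P' hm'.quasi hnt)))))))
    have hγ : γ ≠ 0 := fun h => by
      have := hm.pos
      omega
    have hq : 3 ≤ p ^ γ := le_trans (by have := hp'.two_le; omega) (Nat.le_self_pow hγ p)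
    have hcard : Fintype.card K = (p ^ γ) ^ 2 := by rw [hm.card, hβ, ← pow_mul, mul_comm]
    rcases ThreeRes.unitary_of_transvection (p ^ γ) hcard hq hm'.quasi hle hm'.noSub hnt with h | h
    · have hcard' : Fintype.card K = p ^ (2 * γ) := by rw [hm.card, hβ]
      have hdvd : 2 * γ ∣ α := hβ ▸ hm.dvd
      rcases case_su hm' hF hβ h with h | ⟨h3, h6, hL⟩
      · exact Or.inr (Or.inl ⟨K, i1, i2, γ, hcard', hdvd, h⟩)
      · exact Or.inr (Or.inr (Or.inr (Or.inl ⟨K, i1, i2, γ, hcard', h3, h6, hL⟩)))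
    · exact Or.inr (Or.inr (Or.inr (Or.inr (Or.inr (Or.inr (case_dihedral hm' hp' hp hQ' h))))))
  by_cases hnt : ThreeDim.NoTv P
  · exact Or.inr (Or.inr (Or.inr (Or.inr (Or.inr (Or.inr (case_dihedral hm hp' hp hQ (hD p K i1 i2 hp' hp hm.charP P hm.quasi hnt)))))))
  rcases ThreeRes.of_transvection hm.quasi hm.noSub hnt with h | h | h
  · rcases case_sl hm hF h with h | ⟨h3, h6, hL⟩
    · exact Or.inl ⟨K, i1, i2, β, hm.card, hm.dvd, h⟩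
    · exact Or.inr (Or.inr (Or.inl ⟨K, i1, i2, β, hm.card, h3, h6, hL⟩))
  · exact absurd h hU
  · exact Or.inr (Or.inr (Or.inr (Or.inr (Or.inr (Or.inr (case_dihedral hm hp' hp hQ h))))))

end CfsgLib.Perm.Trans.ThreeBloom
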