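import Cfsg.Agent.Lib.Perm.Trans.ThreeBloom.SmallSeven

/-!
# The automorphisms of `PSL(2, 9)` induced on a socle with three scalars

The diagonal automorphism inverts the scalars; the field automorphism fuses the classes of order five.
-/

set_option autoImplicit false
set_option linter.all false

namespace CfsgLib.Perm.Trans.ThreeBloom

open scoped Matrix commutatorElement
open Matrix Cfsg.Geo CfsgLib.Perm.Asch
open CfsgLib.AutPSL (ind proj)
open CfsgLib.Perm.Trans.ThreeRes.Socle (tr uni uSL)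

variable {K : Type} [Field K] [Fintype K] {P : Subgroup (GL (Fin 3) K)}

local notation "scal'" => CfsgLib.Perm.Trans.ThreeRes.Socle.scal

variable {K' : Type} [Field K'] [Fintype K']

local notation "PSL'" => Matrix.ProjectiveSpecialLinearGroup (Fin 2) K'

theorem charP_three (h9 : Fintype.card K' = 9) : CharP K' 3 := by
  haveI : Fact (Nat.Prime 3) := ⟨Nat.prime_three⟩
  exact charP_of_card_eq_prime_pow (R := K') (p := 3) (f := 2) (by rw [h9]; norm_num)

theorem ringAut_cases (h9 : Fintype.card K' = 9) (σ : RingAut K') : σ = 1 ∨ ∀ x : K', σ x = x ^ 3 := by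
  classical
  haveI : Fact (Nat.Prime 3) := ⟨Nat.prime_three⟩
  haveI := charP_three h9
  by_cases h1 : σ = 1
  · exact Or.inl h1
  refine Or.inr fun x => ?_
  let φ : RingAut K' := RingEquiv.ofBijective (frobenius K' 3) (Finite.injective_iff_bijective.1 (frobenius_inj K' 3))
  have hφ : φ ≠ 1 := by
    intro h
    have hall : ∀ y : K', y ^ 3 = y := fun y => congrArg (fun τ : RingAut K' => τ y) h
    obtain ⟨w, hw⟩ := IsCyclic.exists_ofOrder_eq_natCard (α := K'ˣ)
    rw [Nat.card_units, Nat.card_eq_fintype_card, h9] at hw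
    have h2 : w ^ 2 = 1 := by
      refine mul_right_cancel (b := w) ?_
      rw [← pow_succ, one_mul]
      exact Units.ext (by rw [Units.val_pow_eq_pow_val]; exact hall w)
    have := Nat.le_of_dvd two_pos (orderOf_dvd_of_pow_eq_one h2)
    omega
  have hcard : Nat.card (RingAut K') = 2 := CfsgLib.AutPSL.card_ringAut (p := 3) (by rw [h9]; norm_num)
  haveI : Finite (RingAut K') := Nat.finite_of_card_ne_zero (by omega)
  obtain ⟨a, b, hab, huniv⟩ := Nat.card_eq_two_iff.1 hcard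
  have hmem : ∀ τ : RingAut K', τ = a ∨ τ = b := fun τ => by
    simpa using huniv.ge (Set.mem_univ τ)
  have : σ = φ := by
    rcases hmem σ with e1 | e1 <;> rcases hmem φ with e2 | e2 <;> rcases hmem 1 with e3 | e3 <;>
      first
      | exact e1.trans e2.symm
      | exact absurd (e1.trans e3.symm) h1
      | exact absurd (e2.trans e3.symm) hφ
  rw [this]; rfl

theorem exists_root (h9 : Fintype.card K' = 9) :
    ∃ t i : K', i * i = -1 ∧ t * t = i ∧ t * t + t - 1 = 0 ∧ ¬ IsSquare t ∧ i ≠ 1 ∧ i ≠ -1 := by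
  haveI : Fact (Nat.Prime 3) := ⟨Nat.prime_three⟩
  haveI := charP_three h9
  have h3 : (3 : K') = 0 := by exact_mod_cast CharP.cast_eq_zero K' 3
  obtain ⟨i, hi⟩ : IsSquare (-1 : K') := FiniteField.isSquare_neg_one_iff.2 (by rw [h9]; norm_num)
  have h2 : (2 : K') ≠ 0 := fun h => one_ne_zero (show (1 : K') = 0 by linear_combination h3 - h)
  have hi1 : i ≠ 1 := fun h => h2 (by rw [h] at hi; linear_combination -hi)
  have hi2 : i ≠ -1 := fun h => h2 (by rw [h] at hi; linear_combination -hi)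
  refine ⟨1 - i, i, hi.symm, ?_, ?_, ?_, hi1, hi2⟩
  · linear_combination -hi + (-i) * h3
  · linear_combination -hi + (-i) * h3
  · rintro ⟨c, hc⟩
    have h8 : c ^ 8 = 1 := by
      have hc0 : c ≠ 0 := fun h => hi1 (by rw [h, mul_zero, sub_eq_zero] at hc; exact hc.symm)
      have := FiniteField.pow_card_sub_one_eq_one c hc0
      rwa [h9] at this
    have ht : (1 - i) * (1 - i) = i := by linear_combination -hi + (-i) * h3
    have h4 : c ^ 4 = i := by rw [show c ^ 4 = (c * c) * (c * c) by ring, ← hc, ht]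
    exact h2 (by rw [show c ^ 8 = c ^ 4 * c ^ 4 by ring, h4, ← hi] at h8; linear_combination -h8)

/-- an element of determinant `d` is a scalar times `SL` times a fixed representative of its square class -/
theorem gl_two_decomp (D g : GL (Fin 2) K') {c : K'}
    (hc : (g : Matrix (Fin 2) (Fin 2) K').det = c * c * (D : Matrix (Fin 2) (Fin 2) K').det) :
    ∃ s : Matrix.SpecialLinearGroup (Fin 2) K', ind g 1 = ind (Matrix.SpecialLinearGroup.toGL s) 1 * ind D 1 := by
  have hd0 : (g : Matrix (Fin 2) (Fin 2) K').det ≠ 0 := ((Matrix.isUnit_iff_isUnit_det _).1 g.isUnit).ne_zero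
  have hc0 : c ≠ 0 := fun h => hd0 (by rw [hc, h, zero_mul, zero_mul])
  have hD0 : (D : Matrix (Fin 2) (Fin 2) K').det ≠ 0 := ((Matrix.isUnit_iff_isUnit_det _).1 D.isUnit).ne_zero
  obtain ⟨s, hs⟩ : ∃ s : Matrix.SpecialLinearGroup (Fin 2) K',
      g = CfsgLib.AutPSL.scal (Units.mk0 c hc0) * (Matrix.SpecialLinearGroup.toGL s * D) := by
    refine ⟨⟨c⁻¹ • ((g * D⁻¹ : GL (Fin 2) K') : Matrix (Fin 2) (Fin 2) K'), ?_⟩, Units.ext ?_⟩
    · rw [Matrix.det_smul, Fintype.card_fin, Units.val_mul, Matrix.det_mul, Matrix.coe_units_inv,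
        Matrix.det_nonsing_inv, Ring.inverse_eq_inv', hc]
      field_simp
    · rw [Units.val_mul, Units.val_mul, CfsgLib.AutPSL.scal_val, Units.val_mk0, smul_mul_assoc, one_mul]
      show _ = c • ((c⁻¹ • ((g * D⁻¹ : GL (Fin 2) K') : Matrix (Fin 2) (Fin 2) K')) * (D : Matrix (Fin 2) (Fin 2) K'))
      rw [smul_mul_assoc, smul_smul, mul_inv_cancel₀ hc0, one_smul, ← Units.val_mul, inv_mul_cancel_right]
  refine ⟨s, ?_⟩
  rw [hs, CfsgLib.AutPSL.ind_scal_mul, CfsgLib.AutPSL.ind_mul, mul_one]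
  rfl

variable {F : Type*} [Field F] [Fintype F] {H : Subgroup (Matrix.ProjectiveSpecialLinearGroup (Fin 3) F)}
  {p α β : ℕ} {ι : K →+* F} {N : Subgroup (GL (Fin 3) K)}

theorem ind_apply_proj (g : GL (Fin 2) K') (σ : RingAut K') (s : Matrix.SpecialLinearGroup (Fin 2) K') :
    ind g σ (proj s) = proj (CfsgLib.AutPSL.slConj g (CfsgLib.AutPSL.slField σ s)) := rfl

/-- diagonal automorphisms are not induced -/
theorem diag_absurd (hP : ThreeRes.Quasi P) (h9 : Fintype.card K' = 9) (hne : scal' P ≠ ⊥)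
    (e : (↥P ⧸ scal' P) ≃* PSL') {R : Subgroup (MulAut PSL')}
    (hR : Induced (e.toMonoidHom.comp (QuotientGroup.mk' (scal' P))) R) {t i : K'} (ht : t * t = i) (htt : t * t + t - 1 = 0)
    (hns : ¬ IsSquare t) (D : GL (Fin 2) K') (hD : (D : Matrix (Fin 2) (Fin 2) K') = !![t, 0; 0, 1])
    (hDR : ind D 1 ∈ R) : False := by
  classical
  haveI : Fact (Nat.Prime 3) := ⟨Nat.prime_three⟩
  haveI := charP_three h9
  have ht0 : t ≠ 0 := fun h => hns (h ▸ IsSquare.zero)
  have hDu : ∀ x : K', ind D 1 (uni x) = uni (t * x) := by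
    intro x
    show ind D 1 (proj (uSL x)) = proj (uSL (t * x))
    rw [ind_apply_proj]
    refine congrArg proj (Subtype.ext ?_)
    rw [CfsgLib.AutPSL.slConj_val, CfsgLib.AutPSL.slField_val,
      show (uSL x).1.map (⇑(1 : RingAut K')) = (uSL x).1 from Matrix.ext fun _ _ => rfl]
    have hDi : ((D⁻¹ : GL (Fin 2) K') : Matrix (Fin 2) (Fin 2) K') = !![t⁻¹, 0; 0, 1] := by
      rw [Matrix.coe_units_inv]
      refine Matrix.inv_eq_right_inv ?_
      rw [hD]
      ext a b; fin_cases a <;> fin_cases b <;> simp [Matrix.mul_apply, Fin.sum_univ_two, mul_inv_cancel₀ ht0]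
    rw [hDi, hD, ThreeRes.Socle.uSL_coe, ThreeRes.Socle.uSL_coe]
    ext a b; fin_cases a <;> fin_cases b <;> simp [Matrix.mul_apply, Fin.sum_univ_two, mul_inv_cancel₀ ht0]
  let π : ↥P →* PSL' := e.toMonoidHom.comp (QuotientGroup.mk' (scal' P))
  have hπ : Function.Surjective π := e.surjective.comp (QuotientGroup.mk'_surjective _)
  have hker : ∀ z : ↥P, π z = 1 ↔ z ∈ scal' P := fun z =>
    ⟨fun h => (QuotientGroup.eq_one_iff z).1 (e.injective (h.trans (map_one e).symm)),
      fun h => by show e (QuotientGroup.mk z) = 1; rw [(QuotientGroup.eq_one_iff z).2 h, map_one]⟩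
  obtain ⟨a, ha⟩ := hπ (uni 1)
  obtain ⟨b, hb⟩ := hπ (uni t)
  have hab : ⁅a, b⁆ ∈ scal' P := by
    rw [← hker, map_commutatorElement, ha, hb, commutatorElement_eq_one_iff_mul_comm, ThreeRes.Socle.uni_mul,
      ThreeRes.Socle.uni_mul, add_comm]
  have h1 := hR.comms _ hDR a b b (a * b⁻¹) (by show ind D 1 (π a) = π b; rw [ha, hb, hDu, mul_one]) (by
    show ind D 1 (π b) = π (a * b⁻¹)
    rw [map_mul, map_inv, ha, hb, hDu, show (uni t)⁻¹ = uni (-t) from inv_eq_of_mul_eq_one_right (by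
      rw [ThreeRes.Socle.uni_mul, add_neg_cancel, ThreeRes.Socle.uni_zero]), ThreeRes.Socle.uni_mul]
    congr 1
    linear_combination htt) hab
  have h2 : ⁅b, a * b⁻¹⁆ = ⁅a, b⁆⁻¹ := by
    rw [commutatorElement_inv, commutatorElement_def, commutatorElement_def]; group
  rw [h2, inv_eq_iff_mul_eq_one, ← pow_two] at h1
  have h3 : ⁅a, b⁆ = 1 := by
    have := ThreeRes.Socle.scal_cube hP hab
    rwa [pow_succ, h1, one_mul] at this
  have hcab : Commute a b := commutatorElement_eq_one_iff_mul_comm.1 h3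
  set T0 : Subgroup ↥P := (ThreeRes.Socle.uniGroup (K := K')).comap π with hT0
  have hspan : ∀ s : K', ∃ m n : ℕ, s = (m : K') + (n : K') * t := by
    let f : Fin 3 × Fin 3 → K' := fun v => (v.1.1 : K') + (v.2.1 : K') * t
    have hfi : Function.Injective f := by
      rintro ⟨m, n⟩ ⟨m', n'⟩ h
      simp only [f] at h
      have key : (n.1 : K') = (n'.1 : K') := by
        by_contra hne'
        have hsub : ((n.1 : K') - n'.1) ≠ 0 := sub_ne_zero.2 hne'
        have hfix : ∀ k : ℕ, ((k : K')) ^ 3 = k := fun k => map_natCast (frobenius K' 3) k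
        have htf : t = ((m'.1 : K') - m.1) / ((n.1 : K') - n'.1) := by
          rw [eq_div_iff hsub]; linear_combination h
        have ht3 : t ^ 3 = t := by
          rw [htf, div_pow, sub_pow_char, sub_pow_char, hfix, hfix, hfix, hfix]
        -- then `t` would be a square
        apply hns
        have h2' : t * t = 1 := by
          apply mul_left_cancel₀ ht0
          linear_combination ht3
        have h3' : (3 : K') = 0 := by exact_mod_cast CharP.cast_eq_zero K' 3
        exact absurd (show t = 0 by linear_combination htt - h2') ht0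
      have hinj : ∀ x y : Fin 3, (x.1 : K') = (y.1 : K') → x = y := fun x y h' => by
        have := (CharP.natCast_eq_natCast K' 3).1 h'
        rw [Nat.ModEq, Nat.mod_eq_of_lt x.2, Nat.mod_eq_of_lt y.2] at this
        exact Fin.ext this
      obtain rfl := hinj _ _ key
      obtain rfl := hinj m m' (add_right_cancel h)
      rfl
    have hbij := (Fintype.bijective_iff_injective_and_card f).2 ⟨hfi, by rw [h9]; rfl⟩
    intro s
    obtain ⟨v, hv⟩ := hbij.2 s
    exact ⟨v.1.1, v.2.1, hv.symm⟩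
  have hform : ∀ x ∈ T0, ∃ (m n : ℕ) (z : ↥P), z ∈ scal' P ∧ x = a ^ m * b ^ n * z := by
    rintro x ⟨s, hs⟩
    obtain ⟨m, n, rfl⟩ := hspan s
    refine ⟨m, n, (a ^ m * b ^ n)⁻¹ * x, ?_, by rw [mul_inv_cancel_left]⟩
    rw [← hker, map_mul, map_inv, map_mul, map_pow, map_pow, ha, hb, ThreeRes.Socle.uni_pow, ThreeRes.Socle.uni_pow,
      ThreeRes.Socle.uni_mul, mul_one, ← hs, inv_mul_cancel]
  have hcomm : ∀ x ∈ T0, ∀ y ∈ T0, x * y = y * x := by
    intro x hx y hy
    obtain ⟨m, n, z, hz, rfl⟩ := hform x hx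
    obtain ⟨m', n', z', hz', rfl⟩ := hform y hy
    have c1 : Commute (a ^ m * b ^ n) (a ^ m' * b ^ n') :=
      (((Commute.refl a).pow_pow m m').mul_right (hcab.pow_pow m n')).mul_left
        ((hcab.symm.pow_pow n m').mul_right ((Commute.refl b).pow_pow n n'))
    have c2 : ∀ w, Commute w z := fun w => ThreeRes.Socle.scal_comm hP hz w
    have c3 : ∀ w, Commute w z' := fun w => ThreeRes.Socle.scal_comm hP hz' w
    exact ((c1.mul_right (c3 _)).mul_left (c2 _).symm).eq
  have hp : IsPGroup 3 T0 := by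
    intro x
    refine ⟨2, Subtype.ext ?_⟩
    obtain ⟨s, hs⟩ := x.2
    have h3x : x.1 ^ 3 ∈ scal' P := by
      rw [← hker, map_pow, ← hs, ThreeRes.Socle.uni_pow, show ((3 : ℕ) : K') = 0 from CharP.cast_eq_zero K' 3,
        zero_mul, ThreeRes.Socle.uni_zero]
    show x.1 ^ (3 ^ 2) = 1
    rw [show 3 ^ 2 = 3 * 3 from rfl, pow_mul, ThreeRes.Socle.scal_cube hP h3x]
  obtain ⟨U, hU⟩ := ThreeRes.Socle.exists_sylow_uni (K := K') (ℓ := 3) (by norm_num)
  have hidx : ¬ 3 ∣ T0.index := by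
    rw [hT0, Subgroup.index_comap_of_surjective _ hπ, ← hU]
    exact U.not_dvd_index
  exact hne (ThreeRes.Socle.scal_bot_of_abelian hP (hp.toSylow hidx) fun x hx y hy => hcomm x hx y hy)

/-- a field automorphism fuses the classes of order five -/
theorem field_absurd (hP : ThreeRes.Quasi P) (h5 : (5 : K) ≠ 0) (h9 : Fintype.card K' = 9)
    (e : (↥P ⧸ scal' P) ≃* PSL') {R : Subgroup (MulAut PSL')}
    (hR : Induced (e.toMonoidHom.comp (QuotientGroup.mk' (scal' P))) R) {t i : K'} (hi : i * i = -1) (ht : t * t = i)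
    (htt : t * t + t - 1 = 0) (hi1 : i ≠ 1) (hi2 : i ≠ -1) (g : GL (Fin 2) K') (σ : RingAut K')
    (hσ : ∀ x, σ x = x ^ 3) (hgR : ind g σ ∈ R) : False := by
  classical
  haveI : Fact (Nat.Prime 3) := ⟨Nat.prime_three⟩
  haveI : Fact (Nat.Prime 5) := ⟨by norm_num⟩
  haveI := charP_three h9
  have h3 : (3 : K') = 0 := by exact_mod_cast CharP.cast_eq_zero K' 3
  have ht0 : t ≠ 0 := fun h => by
    rw [h, mul_zero] at ht
    rw [← ht, mul_zero] at hi
    exact neg_ne_zero.2 one_ne_zero hi.symm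
  obtain ⟨A, hA⟩ : ∃ A : Matrix.SpecialLinearGroup (Fin 2) K', A.1 = !![0, -1; 1, t] :=
    ⟨⟨!![0, -1; 1, t], by simp [Matrix.det_fin_two_of]⟩, rfl⟩
  have hA5 : A ^ 5 = 1 := by
    refine Subtype.ext ?_
    rw [Matrix.SpecialLinearGroup.coe_pow, hA, Matrix.SpecialLinearGroup.coe_one]
    simp only [pow_succ, pow_zero, one_mul, Matrix.mul_fin_two]
    have ht' : t * t = 1 - t := by linear_combination htt
    have ht4 : t * t * (t * t) = -1 := by rw [ht, hi]
    ext a b
    fin_cases a <;> fin_cases b <;> simp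
    · linear_combination (1 - t) * htt
    · linear_combination (-1 : K') * ht4 + t * t * h3
    · linear_combination ht4 - t * t * h3
    · linear_combination t * ht4 + (1 - t) * htt - t * t * t * h3
  set m : PSL' := proj A with hm
  have hm5 : m ^ 5 = 1 := by rw [hm, ← map_pow, hA5, map_one]
  have hm1 : m ≠ 1 := by
    intro h
    obtain ⟨r, -, hr⟩ := Matrix.SpecialLinearGroup.mem_center_iff.1 ((QuotientGroup.eq_one_iff A).1 h)
    have := congrFun (congrFun hr 1) 0
    rw [hA] at this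
    simp at this
  -- the Sylow five subgroups
  set y := ind g σ m with hy
  have hy5 : y ^ 5 = 1 := by rw [hy, ← map_pow, hm5, map_one]
  have hy1 : y ≠ 1 := fun h => hm1 ((ind g σ).injective (h.trans (map_one _).symm))
  have hcard : Nat.card PSL' = 360 := by
    have h := CfsgLib.Char.TwoChars.card_psl_odd (F := K') (by rw [h9]; decide)
    rw [h9] at h
    omega
  have hsyl : ∀ z : PSL', z ^ 5 = 1 → z ≠ 1 → ∃ S : Sylow 5 PSL', (S : Subgroup PSL') = Subgroup.zpowers z := by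
    intro z hz hz1
    have hc : Nat.card (Subgroup.zpowers z) = 5 := by rw [Nat.card_zpowers, orderOf_eq_prime hz hz1]
    refine ⟨Sylow.ofCard (Subgroup.zpowers z) ?_, rfl⟩
    rw [hc, hcard, show (360 : ℕ) = 5 ^ 1 * 72 by norm_num, Nat.factorization_mul (by norm_num) (by norm_num),
      Finsupp.add_apply, Nat.Prime.factorization_pow (by norm_num),
      Nat.factorization_eq_zero_of_not_dvd (show ¬ 5 ∣ 72 by norm_num)]
    simp
  obtain ⟨S, hS⟩ := hsyl m hm5 hm1
  obtain ⟨S', hS'⟩ := hsyl y hy5 hy1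
  obtain ⟨w, hw⟩ := MulAction.exists_smul_eq PSL' S S'
  obtain ⟨k, hk5, hk⟩ : ∃ k : ℕ, k < 5 ∧ y = w * m ^ k * w⁻¹ := by
    have h : y ∈ (S' : Subgroup PSL') := by rw [hS']; exact Subgroup.mem_zpowers y
    rw [← hw, Sylow.coe_subgroup_smul, hS] at h
    obtain ⟨_, ⟨n, rfl⟩, h'⟩ := h
    refine ⟨(n % 5).toNat, by omega, ?_⟩
    rw [← h', ← zpow_natCast, Int.toNat_of_nonneg (Int.emod_nonneg _ (by norm_num))]
    show w * m ^ n * w⁻¹ = _
    congr 2
    conv_lhs => rw [← Int.mul_ediv_add_emod n 5, _root_.zpow_add, _root_.zpow_mul,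
      show m ^ (5 : ℤ) = 1 by exact_mod_cast hm5, _root_.one_zpow, one_mul]
  obtain ⟨γ, hγR, hγ⟩ : ∃ γ ∈ R, γ m = m ^ k := ⟨MulAut.conj w⁻¹ * ind g σ, R.mul_mem (hR.conj _) hgR, by
    rw [MulAut.mul_apply, ← hy, hk, MulAut.conj_apply]; group⟩
  -- traces on the socle
  obtain ⟨u, hu, hu5⟩ := exists_lift_of_pow hP e hm5 (by norm_num)
  have key : ∀ δ ∈ R, ∀ a b : ℕ, δ (m ^ a) = m ^ b → tr (u ^ b) = tr (u ^ a) := fun δ hδ a b h =>
    hR.traces δ hδ _ _ 5 (by
      show δ (e (QuotientGroup.mk (u ^ a))) = e (QuotientGroup.mk (u ^ b))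
      rw [QuotientGroup.mk_pow, QuotientGroup.mk_pow, map_pow e, map_pow e, hu, h])
      (by rw [← pow_mul, mul_comm, pow_mul, hu5, one_pow]) (by rw [← pow_mul, mul_comm, pow_mul, hu5, one_pow])
      (by norm_num)
  obtain ⟨v, hv⟩ : ∃ v, v * m * v⁻¹ = m⁻¹ :=
    ThreeRes.Socle.psl_real_of_square (fun h => one_ne_zero (show (1 : K') = 0 by linear_combination h3 - h))
      ⟨i, hi.symm⟩ m
  have hu4 : u⁻¹ = u ^ 4 := inv_eq_of_mul_eq_one_right (by rw [← pow_succ', hu5])
  have hm4 : m⁻¹ = m ^ 4 := inv_eq_of_mul_eq_one_right (by rw [← pow_succ', hm5])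
  have hinv : tr u⁻¹ = tr u := by
    rw [hu4]; simpa using key _ (hR.conj v) 1 4 (by rw [pow_one, MulAut.conj_apply, hv, hm4])
  have hu1 : u ≠ 1 := fun h => hm1 (by rw [← hu, h, QuotientGroup.mk_one, map_one])
  have hk14 : k = 1 ∨ k = 4 := by
    interval_cases k
    · exact absurd (by rw [hk, pow_zero, mul_one, mul_inv_cancel]) hy1
    · exact Or.inl rfl
    · exact absurd (by simpa using key γ hγR 1 2 (by rw [pow_one, hγ])) (ThreeRes.Socle.tr_sq_ne hP h5 hu5 hu1 hinv)
    · refine absurd ?_ (ThreeRes.Socle.tr_sq_ne hP h5 hu5 hu1 hinv)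
      have e1 : tr (u ^ 3) = tr u := by simpa using key γ hγR 1 3 (by rw [pow_one, hγ])
      have e2 : tr (u ^ 2) = tr (u ^ 3) := key _ (hR.conj v) 3 2 (by
        rw [map_pow, MulAut.conj_apply, hv, hm4, ← pow_mul, show 4 * 3 = 5 * 2 + 2 from rfl, pow_add m (5 * 2),
          pow_mul, hm5, one_pow, one_mul])
      rw [e2, e1]
    · exact Or.inr rfl
  -- traces in `SL(2)`
  obtain ⟨B, hB, hBt⟩ : ∃ B : Matrix.SpecialLinearGroup (Fin 2) K', m ^ k = proj B ∧ B.1.trace = t := by
    rcases hk14 with rfl | rfl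
    · exact ⟨A, by rw [pow_one], by rw [hA, Matrix.trace_fin_two_of, zero_add]⟩
    · refine ⟨A⁻¹, by rw [← hm4, map_inv], ?_⟩
      rw [Matrix.SpecialLinearGroup.coe_inv, Matrix.adjugate_fin_two, hA]
      simp [Matrix.trace_fin_two]
  obtain ⟨W, rfl⟩ := QuotientGroup.mk'_surjective _ w
  rw [hB, hy, hm, ind_apply_proj] at hk
  change proj _ = proj W * proj B * (proj W)⁻¹ at hk
  rw [← map_inv, ← map_mul, ← map_mul] at hk
  obtain ⟨r, hr, hrm⟩ := Matrix.SpecialLinearGroup.mem_center_iff.1 (QuotientGroup.eq.1 hk)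
  have hX : (W * B * W⁻¹).1 = r • (CfsgLib.AutPSL.slConj g (CfsgLib.AutPSL.slField σ A)).1 := by
    have := congrArg (fun M => (CfsgLib.AutPSL.slConj g (CfsgLib.AutPSL.slField σ A)).1 * M) hrm
    simp only [← Matrix.SpecialLinearGroup.coe_mul, mul_inv_cancel_left] at this
    rw [← this, Matrix.scalar_apply, ← Matrix.smul_one_eq_diagonal, mul_smul_comm, mul_one]
  have htr := congrArg Matrix.trace hX
  have htrB : (W * B * W⁻¹).1.trace = t := by
    rw [Matrix.SpecialLinearGroup.coe_mul, Matrix.trace_mul_comm, ← Matrix.SpecialLinearGroup.coe_mul,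
      inv_mul_cancel_left, hBt]
  rw [htrB, Matrix.trace_smul, CfsgLib.AutPSL.slConj_val, CfsgLib.AutPSL.slField_val, Matrix.trace_mul_comm,
    ← Matrix.mul_assoc, Units.inv_mul, one_mul, hA, smul_eq_mul] at htr
  have hσtr : ((!![0, -1; 1, t] : Matrix (Fin 2) (Fin 2) K').map σ).trace = t ^ 3 := by
    simp [Matrix.trace_fin_two, hσ]
  rw [hσtr] at htr
  simp [Fintype.card_fin] at hr
  have hri : r * i = 1 := by
    apply mul_left_cancel₀ ht0
    linear_combination -htr - (r * t) * ht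
  rcases hr with rfl | rfl
  · exact hi1 (by linear_combination hri)
  · exact hi2 (by linear_combination -hri)

/-- socle `PSL(2, 9)` with three scalars -/
theorem case_nine (hm : Model H p α K β ι N P) (hp : p.Prime) (h9 : Fintype.card K' = 9) (hne : scal' P ≠ ⊥)
    (e : (↥P ⧸ scal' P) ≃* PSL') :
    Nonempty (↥H ≃* PSL') ∨ (p = 5 ∧ ∃ L : Subgroup ↥H, L.index = 2 ∧ Nonempty (↥L ≃* PSL')) := by
  classical
  haveI := hm.quasi.simple
  haveI := e.symm.toEquiv.nontrivial
  haveI : IsSimpleGroup PSL' := e.symm.isSimpleGroup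
  have hna : ¬ IsMulCommutative PSL' := fun hc =>
    hm.quasi.nonabelian ⟨⟨fun a b => e.injective (by rw [map_mul, map_mul]; exact hc.is_comm.comm _ _)⟩⟩
  obtain ⟨R, hR, ⟨eH⟩⟩ := hm.exists_induced e
  obtain ⟨t, i, hi, ht, htt, hns, hi1, hi2⟩ := exists_root h9
  have ht0 : t ≠ 0 := fun h => hns (h ▸ IsSquare.zero)
  set I : Subgroup (MulAut PSL') := (MulAut.conj : PSL' →* MulAut PSL').range with hI
  have hform : ∀ β : MulAut PSL', ∃ g σ, β = ind g σ := by
    intro β
    obtain ⟨g, σ, b, hrep⟩ := CfsgLib.AutPSL.exists_rep (n := 2) le_rfl β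
    cases b <;> simp only [CfsgLib.AutPSL.rep, cond_true, cond_false, mul_one] at hrep
    · exact ⟨g, σ, hrep⟩
    · rw [CfsgLib.AutPSL.itAut_two, CfsgLib.AutPSL.ind_mul] at hrep
      exact ⟨_, _, hrep⟩
  have hA : ∀ g : GL (Fin 2) K', ind g 1 ∈ R → ind g 1 ∈ I := by
    intro g hg
    have hd0 : (g : Matrix (Fin 2) (Fin 2) K').det ≠ 0 := ((Matrix.isUnit_iff_isUnit_det _).1 g.isUnit).ne_zero
    by_cases hsq : IsSquare (g : Matrix (Fin 2) (Fin 2) K').det
    · obtain ⟨c, hc⟩ := hsq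
      obtain ⟨s, hs⟩ := gl_two_decomp 1 g (c := c) (by rw [hc]; simp)
      rw [hs, CfsgLib.AutPSL.ind_one, mul_one]
      exact CfsgLib.AutPSL.mem_inn_iff.2 ⟨s, rfl⟩
    · exfalso
      haveI := charP_three h9
      have h2' : ringChar K' ≠ 2 := by rw [ringChar.eq K' 3]; norm_num
      set D : GL (Fin 2) K' := Matrix.GeneralLinearGroup.mkOfDetNeZero !![t, 0; 0, 1]
        (by simpa [Matrix.det_fin_two_of] using ht0) with hD
      obtain ⟨c, hc⟩ : IsSquare ((g : Matrix (Fin 2) (Fin 2) K').det / t) := by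
        rw [FiniteField.isSquare_iff h2' (div_ne_zero hd0 ht0), div_pow]
        have e1 := (FiniteField.isSquare_iff h2' hd0).not.1 hsq
        have e2 := (FiniteField.isSquare_iff h2' ht0).not.1 hns
        rw [(FiniteField.pow_dichotomy h2' hd0).resolve_left e1, (FiniteField.pow_dichotomy h2' ht0).resolve_left e2]
        norm_num
      obtain ⟨s, hs⟩ := gl_two_decomp D g (c := c) (by
        rw [← hc, hD]
        show _ = _ * (!![t, 0; 0, 1] : Matrix (Fin 2) (Fin 2) K').det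
        rw [Matrix.det_fin_two_of, mul_one, mul_zero, sub_zero, div_mul_cancel₀ _ ht0])
      obtain ⟨x, hx⟩ := CfsgLib.AutPSL.mem_inn_iff.2 ⟨s, rfl⟩
      rw [hs, ← hx] at hg
      have := R.mul_mem (R.inv_mem (hR.conj x)) hg
      rw [inv_mul_cancel_left] at this
      exact diag_absurd hm.quasi h9 hne e hR ht htt hns D rfl this
  by_cases hall : ∀ β ∈ R, β ∈ I
  · exact Or.inl (equiv_of_inner hna hR.conj hall eH)
  right
  push Not at hall
  obtain ⟨β₀, hβ₀, hβ₀I⟩ := hall
  have hfield : ∀ β ∈ R, β ∉ I → ∃ g σ, β = ind g σ ∧ ∀ x : K', σ x = x ^ 3 := by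
    intro β hβ hβI
    obtain ⟨g, σ, rfl⟩ := hform β
    rcases ringAut_cases h9 σ with rfl | h
    · exact absurd (hA g hβ) hβI
    · exact ⟨g, σ, rfl, h⟩
  have h5 : p = 5 := by
    by_contra hne5
    haveI := hm.charP
    have h5' : (5 : K) ≠ 0 := fun h => hne5
      ((Nat.prime_dvd_prime_iff_eq hp (by norm_num)).1 ((CharP.cast_eq_zero_iff K p 5).1 (by exact_mod_cast h)))
    obtain ⟨g, σ, rfl, hσ⟩ := hfield β₀ hβ₀ hβ₀I
    exact field_absurd hm.quasi h5' h9 e hR hi ht htt hi1 hi2 g σ hσ hβ₀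
  refine ⟨h5, ((I.subgroupOf R)).comap eH.toMonoidHom, ?_, ?_⟩
  · rw [Subgroup.index_comap_of_surjective _ eH.surjective, Subgroup.index_eq_two_iff]
    refine ⟨⟨β₀, hβ₀⟩, fun γ => ?_⟩
    simp only [Subgroup.mem_subgroupOf, Subgroup.coe_mul]
    by_cases hγI : γ.1 ∈ I
    · refine Or.inr ⟨hγI, fun h => hβ₀I ?_⟩
      have := I.mul_mem (I.inv_mem hγI) h
      rwa [inv_mul_cancel_left] at this
    · refine Or.inl ⟨?_, hγI⟩
      obtain ⟨g, σ, hg, hσ⟩ := hfield γ.1 γ.2 hγI
      obtain ⟨g', σ', hg', hσ'⟩ := hfield β₀ hβ₀ hβ₀I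
      have hσσ : σ * σ' = 1 := by
        refine RingEquiv.ext fun x => ?_
        show σ (σ' x) = x
        rw [hσ', hσ, ← pow_mul]
        have := FiniteField.pow_card x
        rwa [h9] at this
      have hprod : γ.1 * β₀ = ind (g * CfsgLib.AutPSL.glField σ g') 1 := by
        rw [hg, hg', CfsgLib.AutPSL.ind_mul, hσσ]
      rw [hprod]
      exact hA _ (hprod ▸ R.mul_mem γ.2 hβ₀)
  · have hinj : Function.Injective (MulAut.conj : PSL' →* MulAut PSL') := by
      rw [← MonoidHom.ker_eq_bot_iff]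
      refine (IsSimpleGroup.eq_bot_or_eq_top_of_normal _ inferInstance).resolve_right fun h => hna ⟨⟨fun a b => ?_⟩⟩
      have ha : MulAut.conj a = 1 := by
        rw [← MonoidHom.mem_ker, h]; exact Subgroup.mem_top a
      have := congrArg (fun β : MulAut PSL' => β b) ha
      simpa [mul_inv_eq_iff_eq_mul] using this
    have hle : I ≤ R := fun β ⟨x, hx⟩ => hx ▸ hR.conj x
    refine ⟨((eH.subgroupMap _).trans ?_).trans (MonoidHom.ofInjective hinj).symm⟩
    refine (MulEquiv.subgroupCongr ?_).trans (Subgroup.subgroupOfEquivOfLe hle)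
    exact Subgroup.map_comap_eq_self_of_surjective eH.surjective _

end CfsgLib.Perm.Trans.ThreeBloom
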