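import Cfsg.Agent.Lib.Perm.Trans.ThreeBloom.Induced
import Cfsg.Agent.Lib.Perm.Trans.ThreeRes.Socle.Main
import Cfsg.Agent.Lib.AutPSL.Outer
import Cfsg.Agent.Lib.OneComposite.Outer
import Cfsg.Agent.Lib.Perm.Groups.AltAut

/-!
# No outer automorphism of `PSL(2, 7)` or `A₇` preserves the traces
-/

set_option autoImplicit false
set_option linter.all false

namespace CfsgLib.Perm.Trans.ThreeBloom

open scoped Matrix commutatorElement
open Matrix Cfsg.Geo CfsgLib.Perm.Asch
open CfsgLib.Perm.Trans.ThreeRes.Socle (scal tr)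

universe v

variable {K : Type} [Field K] [Fintype K] {P : Subgroup (GL (Fin 3) K)}

local notation "M3" => Matrix (Fin 3) (Fin 3) K

/-- an element of order seven does not have all its powers of the same trace -/
theorem eq_one_of_seven (hP : ThreeRes.Quasi P) (h7 : (7 : K) ≠ 0) {u : ↥P} (hu : u ^ 7 = 1)
    (hinv : tr u⁻¹ = tr u) (h2 : tr (u ^ 2) = tr u) : u = 1 := by
  by_contra hu1
  obtain ⟨A, hA⟩ : ∃ A : M3, A = ((u : GL (Fin 3) K) : M3) := ⟨_, rfl⟩
  have hd : A.det = 1 := hA ▸ CfsgLib.Perm.Trans.ThreeDim.det_one_of_mem hP.le_sl u.2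
  have hadj : A.adjugate = (((u⁻¹ : ↥P) : GL (Fin 3) K) : M3) := by
    have h1 : A * A.adjugate = 1 := by rw [Matrix.mul_adjugate, hd, one_smul]
    calc A.adjugate = ((((u⁻¹ : ↥P) : GL (Fin 3) K) : M3) * A) * A.adjugate := by
          rw [hA, Subgroup.coe_inv, Units.inv_mul, one_mul]
      _ = _ := by rw [mul_assoc, h1, mul_one]
  have hs : A.adjugate.trace = A.trace := by rw [hadj, hA]; exact hinv
  have ht2 : (A * A).trace = A.trace := by rw [← pow_two, hA, ← ThreeRes.Socle.mat_pow]; exact h2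
  have key : (A * A).trace = A.trace * A.trace - 2 * A.adjugate.trace := by
    rw [Matrix.adjugate_fin_three, Matrix.trace_fin_three, Matrix.trace_fin_three, Matrix.trace_fin_three]
    simp [Matrix.mul_apply, Fin.sum_univ_three]
    ring
  have ch : A * (A * A) = A.trace • (A * A) - A.adjugate.trace • A + A.det • (1 : M3) := by
    rw [Matrix.adjugate_fin_three, Matrix.trace_fin_three, Matrix.trace_fin_three, Matrix.det_fin_three]
    ext i j
    fin_cases i <;> fin_cases j <;> simp [Matrix.mul_apply, Fin.sum_univ_three] <;> ring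
  have hA7 : A ^ 7 = 1 := by rw [hA, ← ThreeRes.Socle.mat_pow, hu]; rfl
  have hu1' : A ≠ 1 := fun h => hu1 (Subtype.ext (Units.ext (by rw [← hA, h]; rfl)))
  have ht : A.trace = 0 ∨ A.trace = 3 := by
    have : A.trace * (A.trace - 3) = 0 := by linear_combination ht2 - key + 2 * hs
    rcases mul_eq_zero.1 this with h | h
    · exact Or.inl h
    · exact Or.inr (by linear_combination h)
  rw [hs, hd, one_smul] at ch
  rcases ht with t0 | t3
  · rw [t0, zero_smul, zero_smul, sub_zero, zero_add] at ch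
    have h3 : A ^ 3 = 1 := by rw [pow_succ', pow_two, ch]
    refine hu1' ?_
    calc A = A ^ (3 * 2) * A := by rw [pow_mul, h3, one_pow, one_mul]
      _ = 1 := by rw [← pow_succ, show (3 : ℕ) * 2 + 1 = 7 from rfl, hA7]
  · rw [t3] at ch
    obtain ⟨N, rfl⟩ : ∃ N, A = 1 + N := ⟨A - 1, (add_sub_cancel _ _).symm⟩
    have hN : N * (N * N) = 0 := by
      have : (1 + N) * ((1 + N) * (1 + N)) - ((3 : K) • ((1 + N) * (1 + N)) - (3 : K) • (1 + N) + 1) = 0 :=
        sub_eq_zero.2 ch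
      rw [← this]
      simp only [mul_add, add_mul, one_mul, mul_one]
      module
    have hpow : ∀ k : ℕ, (1 + N) ^ k = 1 + (k : K) • N + (k.choose 2 : K) • (N * N) := by
      intro k
      induction k with
      | zero => simp
      | succ k ih =>
        rw [pow_succ, ih, Nat.choose_succ_succ' k 1, Nat.choose_one_right]
        simp only [add_mul, one_mul, Matrix.smul_mul, mul_add, mul_one, Nat.cast_succ, Nat.cast_add, add_smul, one_smul,
          mul_assoc, hN, smul_zero]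
        abel
    have hex : (7 : K) • N + (21 : K) • (N * N) = 0 := by
      have h := hpow 7
      rw [hA7, show Nat.choose 7 2 = 21 from rfl, Nat.cast_ofNat, Nat.cast_ofNat, add_assoc] at h
      exact (left_eq_add.1 h)
    have hN2 : N * N = 0 := by
      have h := congrArg (fun X => N * X) hex
      simp only [mul_add, Matrix.mul_smul, hN, smul_zero, add_zero, mul_zero] at h
      exact (smul_eq_zero.1 h).resolve_left h7
    rw [hN2, smul_zero, add_zero] at hex
    exact hu1' (by rw [(smul_eq_zero.1 hex).resolve_left h7, add_zero])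

/-- a lift of order prime to three -/
theorem exists_lift_of_pow {M : Type v} [Group M] (hP : ThreeRes.Quasi P) (e : (↥P ⧸ scal P) ≃* M) {m : M} {n : ℕ}
    (hm : m ^ n = 1) (h3 : ¬ 3 ∣ n) : ∃ u : ↥P, e (QuotientGroup.mk u) = m ∧ u ^ n = 1 := by
  obtain ⟨u, hu⟩ := (e.surjective.comp (QuotientGroup.mk'_surjective (scal P))) m
  have hs : u ^ n ∈ scal P := (QuotientGroup.eq_one_iff _).1 (e.injective (by
    rw [map_one, QuotientGroup.mk_pow, map_pow]
    exact (congrArg (· ^ n) hu).trans hm))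
  obtain ⟨z, hz, hzn⟩ := ThreeRes.Socle.exists_lift hP hs h3
  refine ⟨u * z, ?_, hzn⟩
  rw [QuotientGroup.mk_mul, (QuotientGroup.eq_one_iff z).2 hz, mul_one]
  exact hu

/-- an automorphism mapping an element of order seven to its inverse or its cube is not induced -/
theorem seven_absurd {M : Type v} [Group M] (hP : ThreeRes.Quasi P) (h7 : (7 : K) ≠ 0) (e : (↥P ⧸ scal P) ≃* M)
    {R : Subgroup (MulAut M)} (hR : Induced (e.toMonoidHom.comp (QuotientGroup.mk' (scal P))) R)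
    {β : MulAut M} (hβ : β ∈ R) {m : M} (hm7 : m ^ 7 = 1) (hm1 : m ≠ 1)
    (hb : β m = m⁻¹ ∧ (∃ y, y * m * y⁻¹ = m ^ 2) ∨ β m = m ^ 3) : False := by
  obtain ⟨u, hu, hu7⟩ := exists_lift_of_pow hP e hm7 (by norm_num)
  have hk : ∀ k : ℕ, (u ^ k) ^ 7 = 1 := fun k => by rw [← pow_mul, mul_comm, pow_mul, hu7, one_pow]
  have key : ∀ γ ∈ R, ∀ k j : ℕ, γ (m ^ k) = m ^ j → tr (u ^ j) = tr (u ^ k) := fun γ hγ k j h =>
    hR.traces γ hγ _ _ 7 (by
      show γ (e (QuotientGroup.mk (u ^ k))) = e (QuotientGroup.mk (u ^ j))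
      rw [QuotientGroup.mk_pow, QuotientGroup.mk_pow, map_pow e, map_pow e, hu, h]) (hk k) (hk j) (by norm_num)
  have hu6 : u⁻¹ = u ^ 6 := inv_eq_of_mul_eq_one_right (by rw [← pow_succ', hu7])
  have hm6 : m⁻¹ = m ^ 6 := inv_eq_of_mul_eq_one_right (by rw [← pow_succ', hm7])
  have hfin : u = 1 := by
    rcases hb with ⟨hb, y, hy⟩ | hb
    · refine eq_one_of_seven hP h7 hu7 ?_ ?_
      · rw [hu6]; simpa using key β hβ 1 6 (by rw [pow_one, hb, hm6])
      · simpa using key _ (hR.conj y) 1 2 (by rw [pow_one]; exact hy)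
    · have h3' : ∀ k, tr (u ^ (3 * k)) = tr (u ^ k) := fun k => key β hβ k (3 * k) (by rw [map_pow, hb, ← pow_mul])
      have e1 : tr (u ^ 3) = tr u := by simpa using h3' 1
      have e2 : tr (u ^ 2) = tr u := by
        rw [← e1, ← h3' 3, show 3 * 3 = 7 + 2 from rfl, pow_add u 7, hu7, one_mul]
      refine eq_one_of_seven hP h7 hu7 ?_ e2
      rw [hu6, show 6 = 3 * 2 from rfl, h3', e2]
  apply hm1
  rw [← hu, hfin, QuotientGroup.mk_one, map_one]

variable {F : Type*} [Field F] [Fintype F] {H : Subgroup (Matrix.ProjectiveSpecialLinearGroup (Fin 3) F)}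
  {p α β : ℕ} {ι : K →+* F} {N : Subgroup (GL (Fin 3) K)}

theorem seven_ne_zero (hchar : CharP K p) (hp : p.Prime) (hp7 : p ≠ 7) : (7 : K) ≠ 0 := fun h => by
  haveI := hchar
  exact hp7 ((Nat.prime_dvd_prime_iff_eq hp (by norm_num)).1 ((CharP.cast_eq_zero_iff K p 7).1 (by exact_mod_cast h)))

/-- socle `PSL(2, 7)` -/
theorem case_seven (hm : Model H p α K β ι N P) (hp : p.Prime) (hp7 : p ≠ 7) {K' : Type} [Field K'] [Fintype K']
    (h7 : Fintype.card K' = 7) (e : (↥P ⧸ scal P) ≃* Matrix.ProjectiveSpecialLinearGroup (Fin 2) K') :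
    Nonempty (↥H ≃* Matrix.ProjectiveSpecialLinearGroup (Fin 2) K') := by
  classical
  haveI : Fact (Nat.Prime 7) := ⟨by norm_num⟩
  haveI := charP_of_card_eq_prime (R := K') (p := 7) h7
  haveI := hm.quasi.simple
  haveI := e.symm.toEquiv.nontrivial
  haveI : IsSimpleGroup (Matrix.ProjectiveSpecialLinearGroup (Fin 2) K') := e.symm.isSimpleGroup
  have hna : ¬ IsMulCommutative (Matrix.ProjectiveSpecialLinearGroup (Fin 2) K') := fun hc =>
    hm.quasi.nonabelian ⟨⟨fun a b => e.injective (by rw [map_mul, map_mul]; exact hc.is_comm.comm _ _)⟩⟩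
  obtain ⟨R, hR, ⟨eH⟩⟩ := hm.exists_induced e
  refine equiv_of_inner hna hR.conj (fun β hβ => ?_) eH
  obtain ⟨g, σ, b, hrep⟩ := CfsgLib.AutPSL.exists_rep (n := 2) le_rfl β
  have hσ : σ = 1 := CfsgLib.OneComposite.ringAut_eq_one_of_prime (by rw [h7]; norm_num) σ
  subst hσ
  obtain ⟨g, rfl⟩ : ∃ g', β = CfsgLib.AutPSL.ind g' 1 := by
    cases b <;> simp only [CfsgLib.AutPSL.rep, cond_true, cond_false, mul_one] at hrep
    · exact ⟨g, hrep⟩
    · rw [CfsgLib.AutPSL.itAut_two, CfsgLib.AutPSL.ind_mul] at hrep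
      exact ⟨_, hrep.trans (congrArg (CfsgLib.AutPSL.ind _) (one_mul _))⟩
  set J : GL (Fin 2) K' := Matrix.GeneralLinearGroup.mkOfDetNeZero !![-1, 0; 0, 1]
    (by simp [Matrix.det_fin_two_of]) with hJ
  have h3ns : ¬ IsSquare (-1 : K') := by
    rw [FiniteField.isSquare_neg_one_iff, h7]; norm_num
  -- write `g` as a scalar times `SL` or `J · SL`
  obtain ⟨D, hD, c, s, hg⟩ : ∃ D, (D = 1 ∨ D = J) ∧ ∃ (c : K'ˣ) (s : Matrix.SpecialLinearGroup (Fin 2) K'),
      g = CfsgLib.AutPSL.scal c * (Matrix.SpecialLinearGroup.toGL s * D) := by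
    set d := (g : Matrix (Fin 2) (Fin 2) K').det with hdd
    have hd0 : d ≠ 0 := ((Matrix.isUnit_iff_isUnit_det _).1 g.isUnit).ne_zero
    have key : ∀ D : GL (Fin 2) K', ∀ c : K', d = c * c * (D : Matrix (Fin 2) (Fin 2) K').det →
        ∃ (c' : K'ˣ) (s : Matrix.SpecialLinearGroup (Fin 2) K'),
          g = CfsgLib.AutPSL.scal c' * (Matrix.SpecialLinearGroup.toGL s * D) := by
      intro D c hc
      have hc0 : c ≠ 0 := fun h => hd0 (by rw [hc, h, zero_mul, zero_mul])
      refine ⟨Units.mk0 c hc0, ⟨c⁻¹ • ((g * D⁻¹ : GL (Fin 2) K') : Matrix (Fin 2) (Fin 2) K'), ?_⟩, Units.ext ?_⟩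
      · rw [Matrix.det_smul, Fintype.card_fin, Units.val_mul, Matrix.det_mul, ← hdd, Matrix.coe_units_inv,
          Matrix.det_nonsing_inv, Ring.inverse_eq_inv', hc]
        have hD0 : (D : Matrix (Fin 2) (Fin 2) K').det ≠ 0 := ((Matrix.isUnit_iff_isUnit_det _).1 D.isUnit).ne_zero
        field_simp
      · rw [Units.val_mul, Units.val_mul, CfsgLib.AutPSL.scal_val, Units.val_mk0, smul_mul_assoc, one_mul]
        show _ = c • ((c⁻¹ • ((g * D⁻¹ : GL (Fin 2) K') : Matrix (Fin 2) (Fin 2) K')) * (D : Matrix (Fin 2) (Fin 2) K'))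
        rw [smul_mul_assoc, smul_smul, mul_inv_cancel₀ hc0, one_smul, ← Units.val_mul, inv_mul_cancel_right]
    by_cases hsq : IsSquare d
    · obtain ⟨c, hc⟩ := hsq
      exact ⟨1, Or.inl rfl, key 1 c (by rw [hc]; simp)⟩
    · obtain ⟨c, hc⟩ : IsSquare (-d) := by
        have h1 := FiniteField.isSquare_iff (F := K') (by rw [ringChar.eq K' 7]; norm_num) (neg_ne_zero.2 hd0)
        rw [h1, h7]
        have h2 := (FiniteField.isSquare_iff (F := K') (by rw [ringChar.eq K' 7]; norm_num) hd0).not.1 hsq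
        rw [h7] at h2
        rcases FiniteField.pow_dichotomy (F := K') (by rw [ringChar.eq K' 7]; norm_num) hd0 with h | h
        · rw [h7] at h; exact absurd h h2
        · rw [h7] at h
          norm_num at h ⊢
          rw [neg_pow, h]; ring
      refine ⟨J, Or.inr rfl, key J c ?_⟩
      rw [hJ]
      show d = c * c * (!![-1, 0; 0, 1] : Matrix (Fin 2) (Fin 2) K').det
      rw [Matrix.det_fin_two_of, ← hc]; ring
  have hinn : CfsgLib.AutPSL.ind g 1 = CfsgLib.AutPSL.ind (Matrix.SpecialLinearGroup.toGL s) 1 * CfsgLib.AutPSL.ind D 1 := by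
    rw [hg, CfsgLib.AutPSL.ind_scal_mul, CfsgLib.AutPSL.ind_mul, mul_one]
    rfl
  obtain ⟨x, hx⟩ := CfsgLib.AutPSL.mem_inn_iff.2 ⟨s, rfl⟩
  rcases hD with rfl | rfl
  · exact ⟨x, by rw [hinn, CfsgLib.AutPSL.ind_one, mul_one]; exact hx⟩
  · exfalso
    rw [hinn, ← hx] at hβ
    have hJR : CfsgLib.AutPSL.ind J 1 ∈ R := by
      have := R.mul_mem (R.inv_mem (hR.conj x)) hβ
      rwa [inv_mul_cancel_left] at this
    refine seven_absurd hm.quasi (seven_ne_zero hm.charP hp hp7) e hR hJR (m := ThreeRes.Socle.uni (1 : K')) ?_ ?_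
      (Or.inl ⟨?_, ?_⟩)
    · rw [ThreeRes.Socle.uni_pow, show ((7 : ℕ) : K') = 0 from CharP.cast_eq_zero K' 7, zero_mul, ThreeRes.Socle.uni_zero]
    · intro h
      exact one_ne_zero (ThreeRes.Socle.uni_inj (h.trans ThreeRes.Socle.uni_zero.symm))
    · rw [eq_inv_iff_mul_eq_one]
      show CfsgLib.AutPSL.ind J 1 (CfsgLib.AutPSL.proj (ThreeRes.Socle.uSL 1)) * ThreeRes.Socle.uni 1 = 1
      have hval : CfsgLib.AutPSL.ind J 1 (CfsgLib.AutPSL.proj (ThreeRes.Socle.uSL (1 : K'))) = ThreeRes.Socle.uni (-1) := by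
        rw [CfsgLib.AutPSL.ind, CfsgLib.AutPSL.quotAut_proj]
        refine congrArg CfsgLib.AutPSL.proj (Subtype.ext ?_)
        rw [MulAut.mul_apply, CfsgLib.AutPSL.slConj_val, CfsgLib.AutPSL.slField_val,
          show (ThreeRes.Socle.uSL (1 : K')).1.map (⇑(1 : RingAut K')) = (ThreeRes.Socle.uSL (1 : K')).1 from
            Matrix.ext fun _ _ => rfl]
        have hJi : ((J⁻¹ : GL (Fin 2) K') : Matrix (Fin 2) (Fin 2) K') = !![-1, 0; 0, 1] := by
          rw [Matrix.coe_units_inv]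
          refine Matrix.inv_eq_right_inv ?_
          rw [hJ]
          show (!![-1, 0; 0, 1] : Matrix (Fin 2) (Fin 2) K') * _ = 1
          ext i j; fin_cases i <;> fin_cases j <;> simp [Matrix.mul_apply, Fin.sum_univ_two]
        rw [hJi, hJ]
        show (!![-1, 0; 0, 1] : Matrix (Fin 2) (Fin 2) K') * !![1, 1; 0, 1] * !![-1, 0; 0, 1] = !![1, -1; 0, 1]
        ext i j; fin_cases i <;> fin_cases j <;> simp [Matrix.mul_apply, Fin.sum_univ_two]
      rw [hval, ThreeRes.Socle.uni_mul, neg_add_cancel, ThreeRes.Socle.uni_zero]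
    · exact ThreeRes.Socle.exists_conj_sq h7 (by
        rw [ThreeRes.Socle.uni_pow, show ((7 : ℕ) : K') = 0 from CharP.cast_eq_zero K' 7, zero_mul, ThreeRes.Socle.uni_zero])

/-- socle `A₇` -/
theorem case_seventh (hm : Model H p α K β ι N P) (hp : p.Prime) (e : (↥P ⧸ scal P) ≃* alternatingGroup (Fin 7)) :
    p = 5 ∧ Nonempty (↥H ≃* ↥(alternatingGroup (Fin 7))) := by
  classical
  haveI := hm.charP
  haveI : Fact p.Prime := ⟨hp⟩
  have h5 : p = 5 := ThreeRes.Socle.seventh_char (p := p) hm.quasi e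
  refine ⟨h5, ?_⟩
  haveI : IsSimpleGroup (alternatingGroup (Fin 7)) := alternatingGroup.isSimpleGroup (by simp)
  have hna : ¬ IsMulCommutative (alternatingGroup (Fin 7)) := fun hc =>
    hm.quasi.nonabelian ⟨⟨fun a b => e.injective (by rw [map_mul, map_mul]; exact hc.is_comm.comm _ _)⟩⟩
  obtain ⟨R, hR, ⟨eH⟩⟩ := hm.exists_induced e
  refine equiv_of_inner hna hR.conj (fun β hβ => ?_) eH
  obtain ⟨τ, rfl⟩ := (CfsgLib.Perm.Groups.AltAut.conjNormal_bijective (Ω := Fin 7) (by simp) (by simp)).2 β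
  have hconj : ∀ a : alternatingGroup (Fin 7), (MulAut.conjNormal (a : Equiv.Perm (Fin 7))) = MulAut.conj a :=
    fun a => MulEquiv.ext fun x => Subtype.ext (by simp [MulAut.conjNormal_apply])
  by_cases hτ : Equiv.Perm.sign τ = 1
  · exact ⟨⟨τ, Equiv.Perm.mem_alternatingGroup.2 hτ⟩, (hconj _).symm⟩
  exfalso
  let w : Equiv.Perm (Fin 7) := c[1, 3, 2, 6, 4, 5]
  let cyc7 : alternatingGroup (Fin 7) := ⟨c[0, 1, 2, 3, 4, 5, 6], Equiv.Perm.mem_alternatingGroup.2 (by decide +kernel)⟩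
  have hw : Equiv.Perm.sign w = -1 := by decide +kernel
  have hfacts : cyc7 ^ 7 = 1 ∧ cyc7 ≠ 1 ∧ w * (cyc7 : Equiv.Perm (Fin 7)) * w⁻¹ = ((cyc7 ^ 3 : alternatingGroup (Fin 7)) : Equiv.Perm (Fin 7)) := by
    decide +kernel
  have hmem : w * τ⁻¹ ∈ alternatingGroup (Fin 7) := by
    rw [Equiv.Perm.mem_alternatingGroup, map_mul, map_inv, hw, Int.units_ne_iff_eq_neg.1 hτ]
    rfl
  have hwR : MulAut.conjNormal w ∈ R := by
    have := R.mul_mem (hR.conj ⟨_, hmem⟩) hβ
    rwa [← hconj, ← map_mul, inv_mul_cancel_right] at this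
  exact seven_absurd hm.quasi (seven_ne_zero hm.charP hp (by omega)) e hR hwR hfacts.1 hfacts.2.1
    (Or.inr (Subtype.ext (by rw [MulAut.conjNormal_apply]; exact hfacts.2.2)))

end CfsgLib.Perm.Trans.ThreeBloom
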