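import Cfsg.Agent.Lib.Perm.Trans.ThreeBloom.Irred
import Cfsg.Agent.Lib.Perm.Trans.ThreeRes.Defs
import Cfsg.Agent.Lib.Coprime.Fitting

/-!
# The socle of a subgroup without normal elementary abelian subgroups

The preimage in `SL(3)` of such a subgroup of `PSL(3)` has a quasisimple absolutely irreducible normal
subgroup with scalar centralizer.
-/

set_option autoImplicit false
set_option linter.all false

namespace CfsgLib.Perm.Trans.ThreeBloom

open scoped Matrix commutatorElement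
open Matrix Cfsg.Geo CfsgLib.Perm.Asch

variable {F : Type*} [Field F] [Fintype F]

/-- the socle of a group without solvable normal subgroups modulo scalars -/
theorem exists_socle (h2 : (2 : F) ≠ 0) {X : Subgroup (GL (Fin 3) F)} (hrad : NoRad X)
    (hs : ¬ X ≤ scalars (Fin 3) F) (hsl : X ≤ specialLinear (Fin 3) F) :
    ∃ P ≤ X, NormG X P ∧ ThreeRes.Quasi P ∧ ¬ P ≤ scalars (Fin 3) F ∧
      ∀ h ∈ X, (∀ v ∈ P, h * v * h⁻¹ * v⁻¹ ∈ scalars (Fin 3) F) → h ∈ scalars (Fin 3) F := by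
  classical
  set Z := scalars (Fin 3) F
  have self_norm : ∀ Y : Subgroup (GL (Fin 3) F), NormG Y Y := fun Y g hg x hx =>
    Y.mul_mem (Y.mul_mem hg hx) (Y.inv_mem hg)
  have hperf_of : ∀ Y : Subgroup (GL (Fin 3) F), NoRad Y → ¬ Y ≤ Z → ¬ ⁅Y, Y⁆ ≤ Z := fun Y hY hYs hle =>
    hY.not_solvable hYs (solvable_of_commutator_le hle)
  have hcomm_le : ∀ Y : Subgroup (GL (Fin 3) F), ⁅Y, Y⁆ ≤ Y := fun Y => Subgroup.commutator_le.2 fun a ha b hb => by
    rw [commutatorElement_def]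
    exact Y.mul_mem (Y.mul_mem (Y.mul_mem ha hb) (Y.inv_mem ha)) (Y.inv_mem hb)
  obtain ⟨M, ⟨hMX, hMn, hMs⟩, hMmin⟩ := Set.Finite.exists_minimal
    (s := {N : Subgroup (GL (Fin 3) F) | N ≤ X ∧ NormG X N ∧ ¬ N ≤ Z}) (Set.toFinite _)
    ⟨X, le_rfl, self_norm X, hs⟩
  have hMrad : NoRad M := hrad.normal hMX hMn
  obtain ⟨U, ⟨hUM, hUn, hUs⟩, hUmin⟩ := Set.Finite.exists_minimal
    (s := {U : Subgroup (GL (Fin 3) F) | U ≤ M ∧ NormG M U ∧ ¬ U ≤ Z}) (Set.toFinite _)
    ⟨M, le_rfl, self_norm M, hMs⟩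
  have hUeq : ∀ N ≤ U, NormG M N → ¬ N ≤ Z → N = U := fun N hN hNn hNs =>
    le_antisymm hN (hUmin ⟨hN.trans hUM, hNn, hNs⟩ hN)
  have hUrad : NoRad U := hMrad.normal hUM hUn
  have hUperf : ⁅U, U⁆ = U := hUeq _ (hcomm_le U) hUn.commutator (hperf_of U hUrad hUs)
  have hUabs : AbsIrr U := absIrr_of_noRad h2 hUrad hUperf hUs ((hUM.trans hMX).trans hsl)
  -- `U` is normal in `X`
  have hUX : NormG X U := by
    intro g hg
    set V := U.map (MulAut.conj g).toMonoidHom with hV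
    have hVM : V ≤ M := (Subgroup.map_mono hUM).trans (hMn.map_le hg)
    have hVn : NormG M V := by
      rintro m hm _ ⟨x, hx, rfl⟩
      have h1 : g⁻¹ * m * g ∈ M := by simpa using hMn g⁻¹ (X.inv_mem hg) m hm
      exact ⟨_, hUn _ h1 x hx, by simp [mul_assoc]⟩
    by_cases hUV : U ⊓ V ≤ Z
    · exfalso
      refine hUs fun u hu => ?_
      have hc : ∀ v ∈ V, ∀ w ∈ U, v * w * v⁻¹ * w⁻¹ ∈ Z := by
        intro v hv w hw
        refine hUV ⟨U.mul_mem (hUn v (hVM hv) w hw) (U.inv_mem hw), ?_⟩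
        simpa [mul_assoc] using V.mul_mem hv (hVn w (hUM hw) _ (V.inv_mem hv))
      have h1 : ∀ v ∈ V, v ∈ Z := fun v hv =>
        hUabs.mem_scalars_of_commute fun w hw => commute_of_perfect hUperf (hc v hv) w hw
      have := scalars_normal.conj_mem _ (h1 _ ⟨u, hu, rfl⟩) g⁻¹
      simpa [mul_assoc] using this
    · have h1 : U ⊓ V = U := hUeq _ inf_le_left
        (fun m hm x hx => ⟨hUn m hm x hx.1, hVn m hm x hx.2⟩) hUV
      have h2 : U ≤ V := inf_eq_left.1 h1
      have h3 : V = U := (Subgroup.eq_of_le_of_card_ge h2 (le_of_eq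
        (Subgroup.card_map_of_injective (MulEquiv.injective (MulAut.conj g))))).symm
      intro x hx
      rw [← h3]
      exact ⟨x, hx, rfl⟩
  have hUM' : U = M := le_antisymm hUM (hMmin ⟨hUM.trans hMX, hUX, hUs⟩ hUM)
  subst hUM'
  refine ⟨U, hMX, hMn, ?_, hUs, fun h hh hc => hUabs.mem_scalars_of_commute (commute_of_perfect hUperf hc)⟩
  haveI : (Z.subgroupOf U).Normal := scalars_normal.comap U.subtype
  haveI : Nontrivial (U ⧸ Z.subgroupOf U) := by
    obtain ⟨x, hx, hxZ⟩ := Set.not_subset.1 hUs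
    refine ⟨⟨((⟨x, hx⟩ : U) : U ⧸ Z.subgroupOf U), 1, fun h => hxZ ?_⟩⟩
    rw [QuotientGroup.eq_one_iff, Subgroup.mem_subgroupOf] at h
    exact h
  refine ⟨hMX.trans hsl, hUperf, ⟨fun N hN => ?_⟩, fun hc => ?_, hUabs⟩
  · let W : Subgroup (GL (Fin 3) F) := (N.comap (QuotientGroup.mk' (Z.subgroupOf U))).map U.subtype
    by_cases hW : W ≤ Z
    · left
      rw [Subgroup.eq_bot_iff_forall]
      intro q hq
      induction q using QuotientGroup.induction_on with
      | _ x =>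
        rw [QuotientGroup.eq_one_iff, Subgroup.mem_subgroupOf]
        exact hW ⟨x, hq, rfl⟩
    · right
      have hWU : W = U := by
        refine hUeq W (Subgroup.map_subtype_le _) (fun g hg x hx => ?_) hW
        obtain ⟨y, hy, rfl⟩ := Subgroup.mem_map.1 hx
        exact ⟨⟨g, hg⟩ * y * ⟨g, hg⟩⁻¹, (hN.comap _).conj_mem y hy _, rfl⟩
      rw [Subgroup.eq_top_iff']
      intro q
      induction q using QuotientGroup.induction_on with
      | _ x =>
        obtain ⟨y, hy, hyx⟩ := Subgroup.mem_map.1 (hWU.ge x.2)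
        rw [show y = x from Subtype.ext hyx] at hy
        exact hy
  · refine hperf_of U hUrad hUs (Subgroup.commutator_le.2 fun a ha b hb => ?_)
    have h1 := mul_comm' (((⟨a⁻¹, U.inv_mem ha⟩ : U) : U ⧸ Z.subgroupOf U)) ((⟨b⁻¹, U.inv_mem hb⟩ : U) : U ⧸ Z.subgroupOf U)
    rw [← QuotientGroup.mk_mul, ← QuotientGroup.mk_mul, QuotientGroup.eq, Subgroup.mem_subgroupOf] at h1
    have h2 := inv_mem h1
    simpa [commutatorElement_def, mul_assoc] using h2

/-- the preimage in `GL(3)` of a subgroup of `PSL(3)` -/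
noncomputable def lift (H : Subgroup (Matrix.ProjectiveSpecialLinearGroup (Fin 3) F)) : Subgroup (GL (Fin 3) F) :=
  (H.comap (QuotientGroup.mk' (Subgroup.center (Matrix.SpecialLinearGroup (Fin 3) F)))).map
    Matrix.SpecialLinearGroup.toGL

theorem toGL_mem_scalars {A : Matrix.SpecialLinearGroup (Fin 3) F} :
    Matrix.SpecialLinearGroup.toGL A ∈ scalars (Fin 3) F ↔ A ∈ Subgroup.center (Matrix.SpecialLinearGroup (Fin 3) F) := by
  rw [Matrix.SpecialLinearGroup.mem_center_iff, mem_scalars]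
  constructor
  · rintro ⟨c, hc⟩
    have h : A.1 = (c : F) • (1 : Matrix (Fin 3) (Fin 3) F) := hc
    refine ⟨c, ?_, ?_⟩
    · have hd := A.2
      rw [h, Matrix.det_smul, Matrix.det_one, mul_one] at hd
      exact hd
    · rw [h, Matrix.smul_one_eq_diagonal]; rfl
  · rintro ⟨c, hc, hA⟩
    have hc0 : c ≠ 0 := fun h => by simp [h, Fintype.card_fin] at hc
    exact ⟨Units.mk0 c hc0, by
      show A.1 = _
      rw [← hA, Matrix.smul_one_eq_diagonal]; rfl⟩

theorem lift_le_sl (H : Subgroup (Matrix.ProjectiveSpecialLinearGroup (Fin 3) F)) :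
    lift H ≤ specialLinear (Fin 3) F := by
  rintro _ ⟨A, -, rfl⟩
  refine Units.ext ?_
  rw [Matrix.GeneralLinearGroup.val_det_apply]
  exact A.2

theorem lift_not_scalar {H : Subgroup (Matrix.ProjectiveSpecialLinearGroup (Fin 3) F)} (hH : H ≠ ⊥) :
    ¬ lift H ≤ scalars (Fin 3) F := by
  intro hle
  apply hH
  rw [Subgroup.eq_bot_iff_forall]
  intro x hx
  obtain ⟨A, rfl⟩ := QuotientGroup.mk'_surjective _ x
  exact (QuotientGroup.eq_one_iff A).2 (toGL_mem_scalars.1 (hle ⟨A, hx, rfl⟩))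

/-- without normal elementary abelian subgroups there are no solvable normal subgroups modulo scalars -/
theorem noRad_lift {H : Subgroup (Matrix.ProjectiveSpecialLinearGroup (Fin 3) F)}
    (hN : ∀ N : Subgroup ↥H, N.Normal → IsMulCommutative ↥N → (∃ r : ℕ, r.Prime ∧ ∀ x ∈ N, x ^ r = 1) → N = ⊥) :
    NoRad (lift H) := by
  intro K hK hKn hKs
  set π := QuotientGroup.mk' (Subgroup.center (Matrix.SpecialLinearGroup (Fin 3) F))
  let K' : Subgroup ↥H := ((K.comap Matrix.SpecialLinearGroup.toGL).map π).subgroupOf H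
  have hK'n : K'.Normal := by
    refine ⟨fun x hx g => ?_⟩
    obtain ⟨k, hk, hkx⟩ := Subgroup.mem_subgroupOf.1 hx
    obtain ⟨A, hA⟩ := QuotientGroup.mk'_surjective (Subgroup.center (Matrix.SpecialLinearGroup (Fin 3) F)) g.1
    rw [Subgroup.mem_subgroupOf]
    refine ⟨A * k * A⁻¹, ?_, ?_⟩
    · show Matrix.SpecialLinearGroup.toGL (A * k * A⁻¹) ∈ K
      rw [map_mul, map_mul, map_inv]
      refine hKn _ ⟨A, ?_, rfl⟩ _ hk
      show π A ∈ H
      rw [hA]; exact g.2
    · rw [map_mul, map_mul, map_inv, hkx, hA]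
      rfl
  haveI : Group.IsSolvable (K.comap (Matrix.SpecialLinearGroup.toGL (n := Fin 3) (R := F))) := by
    haveI := hKs
    refine Group.isSolvable_of_isSolvable_injective (f := Matrix.SpecialLinearGroup.toGL.subgroupComap K)
      fun a b hab => Subtype.ext (Subtype.ext ?_)
    exact congrArg (fun u : K => (u.1 : Matrix (Fin 3) (Fin 3) F)) hab
  haveI : Group.IsSolvable ((K.comap Matrix.SpecialLinearGroup.toGL).map π) :=
    Group.isSolvable_of_surjective (f := π.subgroupMap _) (MonoidHom.subgroupMap_surjective _ _)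
  haveI hK's : Group.IsSolvable K' :=
    Group.isSolvable_of_isSolvable_injective
      (f := ((H.subtype.comp K'.subtype).codRestrict ((K.comap Matrix.SpecialLinearGroup.toGL).map π)
        fun x => Subgroup.mem_subgroupOf.1 x.2))
      fun a b hab => Subtype.ext (Subtype.ext
        (congrArg (fun z : (K.comap Matrix.SpecialLinearGroup.toGL).map π => z.1) hab))
  by_cases hbot : K' = ⊥
  · intro k hk
    obtain ⟨A, hA, rfl⟩ := hK hk
    rw [toGL_mem_scalars, ← QuotientGroup.eq_one_iff]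
    have hm : (⟨π A, hA⟩ : H) ∈ K' := Subgroup.mem_subgroupOf.2 ⟨A, hk, rfl⟩
    rw [hbot, Subgroup.mem_bot] at hm
    exact congrArg Subtype.val hm
  exfalso
  haveI := hK'n
  obtain ⟨N, hN', hN1, hNK, hmin⟩ := CfsgLib.Coprime.exists_minimal_normal_le (N := K') hbot
  haveI := hN'
  haveI : Group.IsSolvable N := Group.isSolvable_of_isSolvable_injective (Subgroup.inclusion_injective hNK)
  obtain ⟨hc, r, hr, he⟩ := CfsgLib.Coprime.minimal_normal_solvable hN1 hmin
  exact hN1 (hN N hN' ⟨⟨fun a b => Subtype.ext (hc a.1 a.2 b.1 b.2)⟩⟩ ⟨r, hr, he⟩)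

end CfsgLib.Perm.Trans.ThreeBloom
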